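import Cfsg.Agent.Lib.TransLinear.Basic
import Cfsg.Agent.Lib.Solvable.Coprime
import Cfsg.Agent.Lib.Solvable.Structure
import Cfsg.Agent.Lib.FiniteGroup.FittingPow

/-!
# A soluble linear group with an element of primitive prime order

Let `x` have prime order `ℓ` on a space of order `s ^ N`, where `ℓ` is a primitive divisor of
`s ^ N - 1`.  Then `x` acts irreducibly, centralises every abelian coprime subgroup it normalises
and, in a soluble group, lies in every `t`-core centraliser unless that core has class two and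
`ℓ = N + 1`, `t = 2`.
-/

set_option autoImplicit false
set_option linter.style.haveILetI false
set_option linter.unusedSectionVars false

namespace Cfsg.Agent.ThreePrimes

open Cfsg.Agent
open scoped commutatorElement

universe u v

variable {D : Type u} [Group D] [Finite D]
variable {E : Type v} [AddCommGroup E] [Finite E] [Nontrivial E] [DistribMulAction D E]
  [FaithfulSMul D E]

/-- An element of primitive prime order. -/
structure PrimElt (E : Type v) [AddCommGroup E] (x : D) (s N ℓ : ℕ) : Prop where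
  hs : s.Prime
  exp : ∀ e : E, s • e = 0
  card : Nat.card E = s ^ N
  pos : 0 < N
  hl : ℓ.Prime
  order : orderOf x = ℓ
  dvd : ℓ ∣ s ^ N - 1
  prim : ∀ j, 0 < j → j < N → ¬ ℓ ∣ s ^ j - 1

namespace PrimElt

variable {x : D} {s N ℓ : ℕ}

theorem not_dvd_s (h : PrimElt E x s N ℓ) : ¬ ℓ ∣ s := fun hd => by
  have h1 : ℓ ∣ s ^ N := hd.trans (dvd_pow_self s h.pos.ne')
  have h2 := Nat.dvd_sub h1 h.dvd
  rw [Nat.sub_sub_self (Nat.one_le_pow _ _ h.hs.pos)] at h2
  exact h.hl.one_lt.ne' (Nat.dvd_one.1 h2)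

theorem le (h : PrimElt E x s N ℓ) : N + 1 ≤ ℓ := by
  have := Fact.mk h.hl
  by_contra hlt
  have h0 : 0 < ℓ - 1 := by have := h.hl.two_le; omega
  refine h.prim (ℓ - 1) h0 (by omega) ?_
  refine (Nat.modEq_iff_dvd' (Nat.one_le_pow _ _ h.hs.pos)).1 ?_
  exact (Nat.ModEq.pow_card_sub_one_eq_one h.hl
    ((Nat.Prime.coprime_iff_not_dvd h.hl).2 h.not_dvd_s).symm).symm

theorem exists_card (h : PrimElt E x s N ℓ) (U : AddSubgroup E) :
    ∃ k ≤ N, Nat.card U = s ^ k :=
  (Nat.dvd_prime_pow h.hs).1 (h.card ▸ U.card_addSubgroup_dvd_card)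

theorem ne_one (h : PrimElt E x s N ℓ) : x ≠ 1 := fun e => by
  have := h.order
  rw [e, orderOf_one] at this
  exact h.hl.one_lt.ne this

theorem pow_eq (h : PrimElt E x s N ℓ) : x ^ ℓ = 1 := h.order ▸ pow_orderOf_eq_one x

theorem fix_bot (h : PrimElt E x s N ℓ) : TransLinear.fixSub E x = ⊥ := by
  obtain ⟨k, hk, hc⟩ := h.exists_card (TransLinear.fixSub E x)
  have h1 := TransLinear.card_modEq h.hl h.pow_eq (U := (⊤ : AddSubgroup E))
    fun u _ => AddSubgroup.mem_top _
  rw [top_inf_eq, AddSubgroup.card_top, h.card, hc] at h1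
  rcases Nat.eq_zero_or_pos k with rfl | hk0
  · exact AddSubgroup.card_eq_one.1 (by rw [hc, pow_zero])
  rcases hk.eq_or_lt with rfl | hlt
  · refine absurd ?_ h.ne_one
    have htop : TransLinear.fixSub E x = ⊤ := AddSubgroup.eq_top_of_card_eq _ (hc.trans h.card.symm)
    exact eq_of_smul_eq_smul (α := E) fun e => by
      rw [one_smul]
      exact (htop.ge (AddSubgroup.mem_top e) :)
  · exfalso
    have h2 : ℓ ∣ s ^ N - s ^ k :=
      (Nat.modEq_iff_dvd' (Nat.pow_le_pow_right h.hs.pos hk)).1 h1.symm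
    rw [show s ^ N = s ^ k * s ^ (N - k) by rw [← pow_add, Nat.add_sub_cancel' hk],
      ← Nat.mul_sub_one] at h2
    rcases (Nat.Prime.dvd_mul h.hl).1 h2 with h3 | h3
    · exact h.not_dvd_s (h.hl.dvd_of_dvd_pow h3)
    · exact h.prim (N - k) (by omega) (by omega) h3

theorem irred (h : PrimElt E x s N ℓ) : TransLinear.Irred E x := by
  intro U hU
  obtain ⟨k, hk, hc⟩ := h.exists_card U
  have h1 := TransLinear.card_modEq h.hl h.pow_eq hU
  rw [h.fix_bot, inf_bot_eq, AddSubgroup.card_bot, hc] at h1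
  rcases Nat.eq_zero_or_pos k with rfl | hk0
  · exact Or.inl (AddSubgroup.card_eq_one.1 (by rw [hc, pow_zero]))
  rcases hk.eq_or_lt with rfl | hlt
  · exact Or.inr (AddSubgroup.eq_top_of_card_eq _ (hc.trans h.card.symm))
  · exact absurd ((Nat.modEq_iff_dvd' (Nat.one_le_pow _ _ h.hs.pos)).1 h1.symm) (h.prim k hk0 hlt)

theorem fpf_of_commute (h : PrimElt E x s N ℓ) {g : D} (hg : g * x = x * g) (hg1 : g ≠ 1) {e : E}
    (he : g • e = e) : e = 0 := by
  rcases h.irred (TransLinear.fixSub E g) (fun u hu => by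
      show g • (x • u) = x • u
      rw [← mul_smul, hg, mul_smul, show g • u = u from hu]) with h0 | h0
  · exact (AddSubgroup.eq_bot_iff_forall _).1 h0 e he
  · exact absurd (eq_of_smul_eq_smul (α := E) fun e' => by
      rw [one_smul]; exact (h0.ge (AddSubgroup.mem_top e') :)) hg1

theorem cyclic (h : PrimElt E x s N ℓ) : IsCyclic (Subgroup.centralizer {x} : Subgroup D) :=
  TransLinear.isCyclic_of_irred h.irred fun _ hg => Subgroup.mem_centralizer_singleton_iff.1 hg

theorem commute_of_commute (h : PrimElt E x s N ℓ) {a b : D} (ha : a * x = x * a)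
    (hb : b * x = x * b) : a * b = b * a := by
  haveI := h.cyclic
  have := IsCyclic.commGroup.mul_comm
    (⟨a, Subgroup.mem_centralizer_singleton_iff.2 ha⟩ : (Subgroup.centralizer {x} : Subgroup D))
    ⟨b, Subgroup.mem_centralizer_singleton_iff.2 hb⟩
  exact congrArg Subtype.val this

theorem normalizes (_h : PrimElt E x s N ℓ) {A : Subgroup D} (hA : ∀ a ∈ A, x * a * x⁻¹ ∈ A) :
    Subgroup.zpowers x ≤ Subgroup.normalizer (A : Set D) := by
  rw [Subgroup.zpowers_le]
  refine Subgroup.mem_normalizer_fintype ?_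
  exact hA

/-- An abelian subgroup of order prime to `s` and `ℓ` normalised by `x` is centralised by it. -/
theorem centralizes (h : PrimElt E x s N ℓ) (A : Subgroup D) [IsMulCommutative A]
    (hAx : ∀ a ∈ A, x * a * x⁻¹ ∈ A) (hAs : ¬ s ∣ Nat.card A) (hAl : ¬ ℓ ∣ Nat.card A)
    {a : D} (ha : a ∈ A) : a * x = x * a := by
  classical
  set X := Subgroup.zpowers x with hX
  have hXA : X ≤ Subgroup.normalizer (A : Set D) := h.normalizes hAx
  have hcop : (Nat.card X).Coprime (Nat.card A) := by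
    rw [hX, Nat.card_zpowers, h.order]
    exact (Nat.Prime.coprime_iff_not_dvd h.hl).2 hAl
  have hfix := CoprimeAct.centralizer_inf_commutator_eq_bot hXA hcop
  set A₁ := ⁅A, X⁆ with hA₁
  have hle : A₁ ≤ A := CoprimeAct.commutator_le_left hXA
  suffices hb : A₁ = ⊥ by
    have := Subgroup.commutator_eq_bot_iff_le_centralizer.1 hb ha
    exact (Subgroup.mem_centralizer_iff.1 this x (Subgroup.mem_zpowers x)).symm
  by_contra hne
  have hX1 : ∀ g ∈ X, ∀ b ∈ A₁, g * b * g⁻¹ ∈ A₁ := fun g hg b hb =>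
    CoprimeAct.conj_mem_of_mem_normalizer (Subgroup.normalizer_commutator_ge_right A X hg) hb
  -- the fixed space of `A₁` is trivial
  let W : AddSubgroup E :=
    { carrier := {e | ∀ b ∈ A₁, b • e = e}
      zero_mem' := fun b _ => smul_zero b
      add_mem' := fun {p q} hp hq b hb => by rw [smul_add, hp b hb, hq b hb]
      neg_mem' := fun {p} hp b hb => by rw [smul_neg, hp b hb] }
  have hW : W = ⊥ := by
    refine (h.irred W fun u hu b hb => ?_).resolve_right fun htop => hne ?_
    · have hb' : x⁻¹ * b * x ∈ A₁ := by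
        simpa using hX1 x⁻¹ (inv_mem (Subgroup.mem_zpowers x)) b hb
      have := hu _ hb'
      calc b • x • u = x • ((x⁻¹ * b * x) • u) := by simp only [← mul_smul]; congr 1; group
        _ = x • u := by rw [this]
    · refine (Subgroup.eq_bot_iff_forall _).2 fun b hb => eq_of_smul_eq_smul (α := E) fun e => ?_
      rw [one_smul]
      exact htop.ge (AddSubgroup.mem_top e) b hb
  haveI : Fintype A₁ := Fintype.ofFinite _
  have hsum : ∀ f : E, ∑ b : A₁, (b : D) • f = 0 := by
    intro f
    refine (AddSubgroup.eq_bot_iff_forall _).1 hW _ fun c hc => ?_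
    rw [Finset.smul_sum]
    exact Fintype.sum_equiv (Equiv.mulLeft (⟨c, hc⟩ : A₁)) _ _ fun b => by
      rw [← mul_smul]; rfl
  have hS : ∀ f : E, ∑ i ∈ Finset.range ℓ, x ^ i • f = 0 := by
    intro f
    refine (AddSubgroup.eq_bot_iff_forall _).1 h.fix_bot _ ?_
    show x • _ = _
    rw [Finset.smul_sum]
    have h1 := Finset.sum_range_succ (fun i => x ^ i • f) ℓ
    rw [Finset.sum_range_succ', h.pow_eq, pow_zero] at h1
    simp only [← mul_smul, ← pow_succ']
    exact add_right_cancel h1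
  have hT : ∀ i, 0 < i → i < ℓ → ∀ f : E,
      ∑ b : A₁, ((b : D) * x ^ i * (b : D)⁻¹) • f = 0 := by
    intro i hi hil f
    let φ : A₁ → A₁ := fun b => ⟨(b : D) * (x ^ i * (b : D)⁻¹ * (x ^ i)⁻¹),
      mul_mem b.2 (hX1 _ (pow_mem (Subgroup.mem_zpowers x) i) _ (inv_mem b.2))⟩
    have hinj : Function.Injective φ := by
      intro b c hbc
      have h1 := congrArg Subtype.val hbc
      simp only [φ] at h1
      -- `c⁻¹ b` commutes with `x ^ i`
      have h2 : ((c : D)⁻¹ * b) * x ^ i = x ^ i * ((c : D)⁻¹ * b) := by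
        calc (c : D)⁻¹ * b * x ^ i
            = (c : D)⁻¹ * ((b : D) * (x ^ i * (b : D)⁻¹ * (x ^ i)⁻¹)) * x ^ i * b := by group
          _ = (c : D)⁻¹ * ((c : D) * (x ^ i * (c : D)⁻¹ * (x ^ i)⁻¹)) * x ^ i * b := by rw [h1]
          _ = x ^ i * ((c : D)⁻¹ * b) := by group
      have hgen : x ∈ Subgroup.zpowers (x ^ i) := by
        have hco : Nat.Coprime i (orderOf x) := by
          rw [h.order, Nat.coprime_comm, Nat.Prime.coprime_iff_not_dvd h.hl]
          exact fun hd => absurd (Nat.le_of_dvd hi hd) (by omega)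
        obtain ⟨m, hm⟩ := exists_pow_eq_self_of_coprime hco
        exact ⟨(m : ℤ), by simpa using hm⟩
      have h3 : (c : D)⁻¹ * b ∈ Subgroup.centralizer (X : Set D) := by
        have : X ≤ Subgroup.centralizer {(c : D)⁻¹ * b} := by
          rw [hX, Subgroup.zpowers_le]
          refine (Subgroup.zpowers_le.2 ?_) hgen
          exact Subgroup.mem_centralizer_singleton_iff.2 h2.symm
        exact Subgroup.mem_centralizer_iff.2 fun g hg =>
          Subgroup.mem_centralizer_singleton_iff.1 (this hg)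
      have h4 : (c : D)⁻¹ * b = 1 := by
        have hmem : (c : D)⁻¹ * b ∈ A₁ := A₁.mul_mem (A₁.inv_mem c.2) b.2
        rw [← Subgroup.mem_bot, ← hfix]
        exact ⟨⟨hle hmem, h3⟩, hmem⟩
      exact Subtype.ext (inv_mul_eq_one.1 h4).symm
    rw [← hsum (x ^ i • f)]
    refine Fintype.sum_equiv (Equiv.ofBijective φ (Finite.injective_iff_bijective.1 hinj)) _ _
      fun b => ?_
    show _ = ((φ b : A₁) : D) • _
    rw [← mul_smul]
    congr 1
    simp only [φ]
    group
  obtain ⟨e, he⟩ := exists_ne (0 : E)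
  have htot : ∑ b : A₁, ∑ i ∈ Finset.range ℓ, ((b : D) * x ^ i * (b : D)⁻¹) • e = 0 := by
    refine Finset.sum_eq_zero fun b _ => ?_
    simp only [mul_smul]
    rw [← Finset.smul_sum, hS, smul_zero]
  rw [Finset.sum_comm, Finset.sum_eq_single_of_mem 0 (Finset.mem_range.2 h.hl.pos)
    fun i hi hi0 => hT i (Nat.pos_of_ne_zero hi0) (Finset.mem_range.1 hi) e] at htot
  simp only [pow_zero, mul_one, mul_inv_cancel, one_smul, Finset.sum_const, Finset.card_univ,
    ← Nat.card_eq_fintype_card] at htot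
  refine he ?_
  have hcs : (Nat.card A₁).Coprime s := ((Nat.Prime.coprime_iff_not_dvd h.hs).2 fun hd =>
    hAs (hd.trans (Subgroup.card_dvd_of_le hle))).symm
  have h1 := addOrderOf_dvd_of_nsmul_eq_zero htot
  have h2 := addOrderOf_dvd_of_nsmul_eq_zero (h.exp e)
  exact AddMonoid.addOrderOf_eq_one_iff.1 (Nat.eq_one_of_dvd_coprimes hcs h1 h2)

/-- The field attached to a centralised cyclic normal subgroup. -/
theorem exists_cyclic [Group.IsSolvable D] (h : PrimElt E x s N ℓ)
    (hc : ∀ t : ℕ, t.Prime → t ≠ ℓ → ∀ o ∈ Cfsg.pCore t D, o * x = x * o) :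
    (Subgroup.centralizer {x} : Subgroup D).Normal ∧
      (Subgroup.centralizer {x} : Subgroup D).index ∣ ℓ - 1 := by
  classical
  have := Fact.mk h.hl
  haveI := h.cyclic
  set C : Subgroup D := Subgroup.centralizer {x} with hC
  set O := Cfsg.pCore ℓ D with hO
  haveI hOn : O.Normal := FittingCores.pCore_normal ℓ
  have hOp : IsPGroup ℓ O := FittingCores.pCore_isPGroup ℓ
  have hxC : x ∈ C := Subgroup.mem_centralizer_singleton_iff.2 rfl
  have hxF : (∀ o ∈ O, o * x = x * o) → x ∈ O := fun hall => by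
    haveI := FittingCores.fitting_nilpotent (G := D)
    haveI := FittingCores.fitting_normal (G := D)
    refine FiniteGroup.mem_pCore_of_mem_normal_nilpotent (Cfsg.fittingSubgroup D) ?_ ⟨1, by rw [pow_one]; exact h.order⟩
    refine FittingCores.centralizer_fitting_le ?_
    have hle : Cfsg.fittingSubgroup D ≤ C := by
      rw [FittingCores.fitting_eq_iSup_pCore, iSup_le_iff]
      intro t o ho
      refine Subgroup.mem_centralizer_singleton_iff.2 ?_
      rcases eq_or_ne (t : ℕ) ℓ with e | e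
      · exact hall o (by rwa [e] at ho)
      · exact hc t t.2 e o ho
    exact Subgroup.mem_centralizer_iff.2 fun g hg => Subgroup.mem_centralizer_singleton_iff.1 (hle hg)
  have hOne : O ≠ ⊥ := fun e => h.ne_one (by
    have := hxF fun o ho => by
      rw [e, Subgroup.mem_bot] at ho
      rw [ho, one_mul, mul_one]
    rwa [e, Subgroup.mem_bot] at this)
  -- a central element of order `ℓ` of the core lies in `⟨x⟩`
  have hLp : IsPGroup ℓ (O ⊔ Subgroup.zpowers x : Subgroup D) :=
    hOp.to_sup_of_normal_left (IsPGroup.of_card (n := 1) (by rw [Nat.card_zpowers, h.order, pow_one]))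
  set L : Subgroup D := O ⊔ Subgroup.zpowers x with hL
  haveI := hLp.isNilpotent
  haveI : (O.subgroupOf L).Normal := Subgroup.Normal.subgroupOf hOn L
  have hne : O.subgroupOf L ⊓ Subgroup.center L ≠ ⊥ := by
    refine SolvStruct.inf_center_ne_bot fun e => hOne ?_
    rw [Subgroup.subgroupOf_eq_bot, disjoint_iff, inf_eq_left.2 le_sup_left] at e
    exact e
  obtain ⟨⟨w, hw⟩, hwe⟩ := exists_prime_orderOf_dvd_card' (G := ↥(O.subgroupOf L ⊓ Subgroup.center L)) ℓ
    ((hLp.to_subgroup _).card_eq_or_dvd.resolve_left fun e => hne (Subgroup.card_eq_one.1 e))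
  obtain ⟨hwO, hwc⟩ := hw
  have hwe' : orderOf (w : D) = ℓ := by rw [← hwe, Subgroup.orderOf_coe]; exact (Subgroup.orderOf_mk _ _).symm
  have hwcomm : ∀ g ∈ L, g * (w : D) = (w : D) * g := fun g hg =>
    congrArg Subtype.val (Subgroup.mem_center_iff.1 hwc ⟨g, hg⟩)
  have hwC : (w : D) ∈ C := Subgroup.mem_centralizer_singleton_iff.2
    (hwcomm x (Subgroup.mem_sup_right (Subgroup.mem_zpowers x))).symm
  have hwx : (w : D) ∈ Subgroup.zpowers x :=
    TransLinear.mem_zpowers_of_isCyclic hxC hwC h.hl.pos h.order (hwe' ▸ pow_orderOf_eq_one _)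
  have hzp : Subgroup.zpowers (w : D) = Subgroup.zpowers x :=
    Subgroup.eq_of_le_of_card_ge (Subgroup.zpowers_le.2 hwx)
      (by rw [Nat.card_zpowers, Nat.card_zpowers, hwe', h.order])
  have hxw : x ∈ Subgroup.zpowers (w : D) := hzp ▸ Subgroup.mem_zpowers x
  have hxO : x ∈ O := (Subgroup.zpowers_le.2 hwO : Subgroup.zpowers (w : D) ≤ O) hxw
  have hOC : ∀ o ∈ O, o ∈ C := fun o ho => by
    refine Subgroup.mem_centralizer_singleton_iff.2 ?_
    obtain ⟨i, hi⟩ := hxw
    rw [← hi]
    exact (Commute.zpow_right (hwcomm o (Subgroup.mem_sup_left ho)) i).eq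
  haveI hZn : (Subgroup.zpowers x).Normal := ⟨fun a ha g => by
    obtain ⟨i, rfl⟩ := ha
    rw [← conj_zpow]
    refine Subgroup.zpow_mem _ ?_ i
    exact TransLinear.mem_zpowers_of_isCyclic hxC (hOC _ (hOn.conj_mem x hxO g)) h.hl.pos h.order
      (by rw [conj_pow, h.pow_eq, mul_one, mul_inv_cancel])⟩
  have hCeq : C = (MulAut.conjNormal (H := Subgroup.zpowers x)).ker := by
    ext g
    rw [hC, Subgroup.mem_centralizer_singleton_iff, MonoidHom.mem_ker]
    constructor
    · intro hg
      refine MulEquiv.ext fun a => Subtype.ext ?_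
      obtain ⟨i, hi⟩ := a.2
      rw [MulAut.conjNormal_apply, ← hi, ← conj_zpow, hg, mul_inv_cancel_right]
      exact hi
    · intro hg
      have := congrArg Subtype.val (DFunLike.congr_fun hg ⟨x, Subgroup.mem_zpowers x⟩)
      rw [MulAut.conjNormal_apply] at this
      exact mul_inv_eq_iff_eq_mul.1 this
  refine ⟨hCeq ▸ MonoidHom.normal_ker _, ?_⟩
  rw [hCeq, Subgroup.index_ker]
  refine (Subgroup.card_subgroup_dvd_card _).trans ?_
  rw [IsCyclic.card_mulAut, Nat.card_zpowers, h.order, Nat.totient_prime h.hl]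

end PrimElt

end Cfsg.Agent.ThreePrimes
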