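import Cfsg.Agent.Lib.ThreePrimes.Semidirect
import Mathlib.GroupTheory.FiniteAbelian.Duality

/-!
# Subgroups acting on linear characters
-/

set_option autoImplicit false
set_option linter.style.haveILetI false
set_option linter.unusedSectionVars false

namespace Cfsg.Agent.ThreePrimes

open Cfsg.Agent

universe u v

variable {G : Type u} [Group G] [Finite G] (N : Subgroup G) [N.Normal]

open scoped IsMulCommutative in
/-- A subgroup acts on the linear characters of a normal subgroup. -/
@[reducible] noncomputable def charAct (H : Subgroup G) :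
    DistribMulAction H (Additive (N →* ℂˣ)) where
  smul h μ := Additive.ofMul ((Additive.toMul μ).comp (Char.conjHom N ((h : G)⁻¹)))
  one_smul μ := congrArg Additive.ofMul (MonoidHom.ext fun n =>
    congrArg (fun z : N => Additive.toMul μ z) (Subtype.ext (by simp)))
  mul_smul a b μ := congrArg Additive.ofMul (MonoidHom.ext fun n =>
    congrArg (fun z : N => Additive.toMul μ z) (Subtype.ext (by simp [mul_assoc])))
  smul_zero h := congrArg Additive.ofMul (MonoidHom.ext fun n => rfl)
  smul_add h μ ν := congrArg Additive.ofMul (MonoidHom.ext fun n => rfl)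

theorem mem_inertia_linear {μ : N →* ℂˣ} {g : G} :
    g ∈ Char.inertia N (fun n : N => (μ n : ℂ)) ↔
      ∀ a b : N, (b : G) = g * a * g⁻¹ → μ b = μ a := by
  rw [Char.mem_inertia_iff]
  constructor
  · intro h a b hb
    rw [show b = ⟨g * a * g⁻¹, ‹N.Normal›.conj_mem a a.2 g⟩ from Subtype.ext hb]
    exact Units.ext (h a)
  · intro h a
    exact congrArg Units.val (h a _ rfl)

theorem stabilizer_charAct (H : Subgroup G) (μ : Additive (N →* ℂˣ)) :
    letI := charAct N H
    MulAction.stabilizer H μ =
      (Char.inertia N (fun n : N => (Additive.toMul μ n : ℂ))).subgroupOf H := by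
  letI := charAct N H
  ext h
  rw [MulAction.mem_stabilizer_iff, Subgroup.mem_subgroupOf]
  rw [← inv_mem_iff (x := (h : G)), mem_inertia_linear]
  constructor
  · intro hh a b hb
    have h1 := DFunLike.congr_fun (congrArg Additive.toMul hh) a
    rw [← h1]
    exact congrArg (fun z : N => Additive.toMul μ z) (Subtype.ext hb)
  · intro hh
    exact congrArg Additive.ofMul (MonoidHom.ext fun a => hh a (Char.conjHom N ((h : G)⁻¹) a) rfl)

/-- Linear characters separate the points of a commutative group modulo nothing. -/
theorem exists_linear_ne_one {A : Type u} [Group A] [Finite A] [IsMulCommutative A] {a : A}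
    (ha : a ≠ 1) : ∃ f : A →* ℂˣ, f a ≠ 1 := by
  open scoped IsMulCommutative in
  haveI : NeZero (Monoid.exponent A : ℂ) :=
    ⟨Nat.cast_ne_zero.mpr Monoid.exponent_ne_zero_of_finite⟩
  open scoped IsMulCommutative in
  exact CommGroup.exists_apply_ne_one_of_hasEnoughRootsOfUnity A ℂ ha

theorem card_hom_eq (A : Type u) [Group A] [Finite A] [IsMulCommutative A] :
    Nat.card (A →* ℂˣ) = Nat.card A := by
  open scoped IsMulCommutative in
  haveI : NeZero (Monoid.exponent A : ℂ) :=
    ⟨Nat.cast_ne_zero.mpr Monoid.exponent_ne_zero_of_finite⟩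
  open scoped IsMulCommutative in
  obtain ⟨e⟩ := CommGroup.monoidHom_mulEquiv_of_hasEnoughRootsOfUnity A ℂ
  exact Nat.card_congr e.toEquiv

theorem finite_hom (A : Type u) [Group A] [Finite A] : Finite (A →* ℂˣ) := by
  classical
  haveI : NeZero (Monoid.exponent (Abelianization A) : ℂ) :=
    ⟨Nat.cast_ne_zero.mpr Monoid.exponent_ne_zero_of_finite⟩
  obtain ⟨e⟩ := CommGroup.monoidHom_mulEquiv_of_hasEnoughRootsOfUnity (Abelianization A) ℂ
  haveI : Finite (Abelianization A →* ℂˣ) := Finite.of_equiv _ e.symm.toEquiv
  exact Finite.of_equiv _ Abelianization.lift.symm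

end Cfsg.Agent.ThreePrimes
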