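import Cfsg.Agent.Lib.ThreePrimes.Quot
import Cfsg.Agent.Lib.Solvable.Structure

/-!
# The lost prime is not the prime of the minimal normal subgroup
-/

set_option autoImplicit false
set_option linter.style.haveILetI false
set_option linter.unusedSectionVars false

namespace Cfsg.Agent.ThreePrimes

open Cfsg.Agent

universe u

variable {G : Type u} [Group G] [Finite G]

/-- Two distinct primes dividing a degree give their product. -/
theorem mul_dvd_deg {p q : ℕ} (hp : p.Prime) (hq : q.Prime) (hpq : p ≠ q) {d : ℕ} (h1 : p ∣ d)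
    (h2 : q ∣ d) : p * q ∣ d :=
  ((Nat.coprime_primes hp hq).2 hpq).mul_dvd_of_dvd_of_dvd h1 h2

theorem complement_equiv (P : Subgroup G) [P.Normal] (H : Subgroup G) (hdis : P ⊓ H = ⊥)
    (hsup : P ⊔ H = ⊤) : Nonempty (↥H ≃* G ⧸ P) := by
  obtain ⟨π, hπ, hπ'⟩ := exists_proj_complement P H hdis hsup
  refine ⟨MulEquiv.ofBijective ((QuotientGroup.mk' P).comp H.subtype) ⟨?_, ?_⟩⟩
  · rw [injective_iff_map_eq_one]
    intro h hh
    have h1 : (h : G) ∈ P ⊓ H := ⟨(QuotientGroup.eq_one_iff (h : G)).1 hh, h.2⟩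
    rw [hdis, Subgroup.mem_bot] at h1
    exact Subtype.ext h1
  · intro x
    obtain ⟨g, rfl⟩ := QuotientGroup.mk_surjective x
    refine ⟨π g, ?_⟩
    show ((π g : G) : G ⧸ P) = g
    exact (QuotientGroup.eq_iff_div_mem.2 (by rw [div_eq_mul_inv]; exact hπ' g)).symm

/-- The index of an inertia group is computed in a complement. -/
theorem index_inertia (P : Subgroup G) [P.Normal] (H : Subgroup G) (hdis : P ⊓ H = ⊥)
    (hsup : P ⊔ H = ⊤) {θ : P → ℂ} (hθ : Cfsg.IsIrrCharacter P θ) :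
    (Char.inertia P θ).index = ((Char.inertia P θ).subgroupOf H).index := by
  obtain ⟨π, hπ, hπ'⟩ := exists_proj_complement P H hdis hsup
  set I := Char.inertia P θ with hI
  have hPI : P ≤ I := Char.le_inertia P
    (Char.IsCharacter.isClassFunction (Char.IsIrrCharacter.isCharacter hθ))
  have hmem : ∀ g : G, g ∈ I ↔ π g ∈ I.subgroupOf H := by
    intro g
    have h1 : g = g * (π g : G)⁻¹ * (π g : G) := by group
    rw [Subgroup.mem_subgroupOf]
    conv_lhs => rw [h1]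
    exact Subgroup.mul_mem_cancel_left I (hPI (hπ' g))
  have h := congrArg Subgroup.index (Subgroup.ext hmem : I = (I.subgroupOf H).comap π)
  exact h.trans (Subgroup.index_comap_of_surjective _ fun h => ⟨(h : G), hπ h⟩)

theorem card_additive_hom (M : Subgroup G) [IsMulCommutative M] :
    Nat.card (Additive (M →* ℂˣ)) = Nat.card M :=
  (Nat.card_congr Additive.toMul).trans (card_hom_eq M)

theorem caseA [Group.IsSolvable G] {p q r s : ℕ} [hp : Fact p.Prime] [hq : Fact q.Prime]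
    [hr : Fact r.Prime] [hs : Fact s.Prime] (hpq : p ≠ q) (hqr : q ≠ r) (hpr : p ≠ r)
    (hsp : s ≠ p) (M : Subgroup G) [M.Normal] [IsMulCommutative M] (hMs : IsPGroup s M)
    (hexp : ∀ x ∈ M, x ^ s = 1) (hM : M ≠ ⊥)
    (hmin : ∀ K : Subgroup G, K.Normal → K ≤ M → K = ⊥ ∨ K = M)
    (huniq : ∀ K : Subgroup G, K.Normal → K ≠ ⊥ → M ≤ K)
    (hpG : Dg G p) (hlack : ¬ Dg (G ⧸ M) p) (hqM : Dg (G ⧸ M) q) (hrM : Dg (G ⧸ M) r)
    (hno : ∀ χ : Cfsg.IrrCharacter G, ¬ p * q ∣ Cfsg.charDegree (χ : G → ℂ) ∧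
      ¬ q * r ∣ Cfsg.charDegree (χ : G → ℂ) ∧ ¬ p * r ∣ Cfsg.charDegree (χ : G → ℂ)) : False := by
  classical
  obtain ⟨hdiv, hstruct, -, hsne⟩ := lack M hMs hmin hpG hlack
  let P : Sylow p G := default
  obtain ⟨hPc, hMP⟩ := hsne hsp P
  have hYn := (hstruct P).1
  set H : Subgroup G := Subgroup.normalizer ((P : Subgroup G) : Set G) with hH
  have hsup : M ⊔ H = ⊤ := by
    haveI := hYn
    have h1 := P.normalizer_sup_eq_top' (N := (P : Subgroup G) ⊔ M) le_sup_left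
    rw [eq_top_iff, ← h1]
    exact sup_le le_sup_right (sup_le (le_sup_of_le_right Subgroup.le_normalizer) le_sup_left)
  have hPn : ¬ (P : Subgroup G).Normal := fun h => not_dg_of_normal P h hPc hpG
  have hdis : M ⊓ H = ⊥ := by
    refine (hmin _ (SolvStruct.inf_normal_of_sup_eq_top hsup) inf_le_left).resolve_right fun h => hPn ?_
    rw [← Subgroup.normalizer_eq_top_iff]
    rw [← hsup]
    exact le_antisymm le_sup_right (sup_le (inf_eq_left.1 h) le_rfl)
  obtain ⟨e⟩ := complement_equiv M H hdis hsup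
  haveI : Fintype M := Fintype.ofFinite M
  haveI hfin : Finite (M →* ℂˣ) := finite_hom M
  haveI : Finite (Additive (M →* ℂˣ)) := Finite.of_equiv _ Additive.ofMul
  letI := charAct M H
  obtain ⟨N, hN⟩ := IsPGroup.iff_card.1 hMs
  have hcard : Nat.card (Additive (M →* ℂˣ)) = s ^ N := (card_additive_hom M).trans hN
  haveI : Nontrivial (Additive (M →* ℂˣ)) := Finite.one_lt_card_iff_nontrivial.1 (by
    rw [card_additive_hom]
    exact (Subgroup.one_lt_card_iff_ne_bot M).2 hM)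
  have hexpE : ∀ μ : Additive (M →* ℂˣ), s • μ = 0 := fun μ =>
    congrArg Additive.ofMul (MonoidHom.ext fun m => by
      rw [MonoidHom.pow_apply, ← map_pow, show m ^ s = 1 from Subtype.ext (hexp m m.2), map_one,
        MonoidHom.one_apply])
  have key : ∀ {t : ℕ} [Fact t.Prime], (∀ χ : Cfsg.IrrCharacter G,
      p ∣ Cfsg.charDegree (χ : G → ℂ) → ¬ t ∣ Cfsg.charDegree (χ : G → ℂ)) → Dg (G ⧸ M) t →
      Spread t H (Additive (M →* ℂˣ)) ∧ ∀ Q : Sylow t H, ¬ (Q : Subgroup H).Normal := by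
    intro t _ hpt htM
    have hsylow : ∀ μ : Additive (M →* ℂˣ), μ ≠ 0 → ∃ Q : Sylow t H,
        (Q : Subgroup H) ≤ MulAction.stabilizer H μ ∧
        MulAction.stabilizer H μ ≤ Subgroup.normalizer ((Q : Subgroup H) : Set H) ∧
        IsMulCommutative (Q : Subgroup H) := by
      intro μ hμ
      rw [stabilizer_charAct M H μ]
      refine stab_sylow M H hdis hsup (Char.isIrrCharacter_linear _)
        (linear_extension M H hdis hsup _) fun χ hχ => hpt χ (hdiv χ ?_)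
      exact nontriv_of_over M χ (Char.isIrrCharacter_linear _)
        (linear_ne fun h1 => hμ (Additive.toMul.injective h1)) hχ
    refine ⟨fun μ hμ => (hsylow μ hμ).imp fun Q h => ⟨h.1, h.2.1⟩, fun Q hQn => ?_⟩
    obtain ⟨μ, hμ⟩ := exists_ne (0 : Additive (M →* ℂˣ))
    obtain ⟨Q', -, -, hc⟩ := hsylow μ hμ
    haveI := Q.unique_of_normal hQn
    rw [Subsingleton.elim Q' Q] at hc
    obtain ⟨χ, hχ⟩ := htM
    obtain ⟨χ', h'⟩ := deg_of_equiv e χ
    exact not_dg_of_normal Q hQn hc ⟨χ', h' ▸ hχ⟩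
  obtain ⟨hsq, hnq⟩ := key (t := q) (fun χ h1 h2 => (hno χ).1 (mul_dvd_deg hp.out hq.out hpq h1 h2)) hqM
  obtain ⟨hsr, hnr⟩ := key (t := r) (fun χ h1 h2 => (hno χ).2.2 (mul_dvd_deg hp.out hr.out hpr h1 h2)) hrM
  obtain ⟨χ, hχ⟩ := pair_quot hs.out hexpE hcard hqr hsq hsr hnq hnr
  obtain ⟨χ₁, h₁⟩ := deg_of_equiv e.symm χ
  obtain ⟨χ₂, h₂⟩ := deg_lift M χ₁
  exact (hno χ₂).2.1 (by rw [h₂, h₁]; exact hχ)

end Cfsg.Agent.ThreePrimes
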