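import Cfsg.Agent.Lib.ThreePrimes.CaseBOne

/-!
# The lost prime is the prime of the minimal normal subgroup
-/

set_option autoImplicit false
set_option linter.style.haveILetI false
set_option linter.unusedSectionVars false

namespace Cfsg.Agent.ThreePrimes

open Cfsg.Agent
open scoped commutatorElement

universe u

variable {G : Type u} [Group G] [Finite G]

theorem caseB [Group.IsSolvable G] {p q r : ℕ} [hp : Fact p.Prime] [hq : Fact q.Prime]
    [hr : Fact r.Prime] (hpq : p ≠ q) (hqr : q ≠ r) (hpr : p ≠ r) (M : Subgroup G) [M.Normal]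
    [IsMulCommutative M] (hMp : IsPGroup p M) (hexp : ∀ x ∈ M, x ^ p = 1) (hM : M ≠ ⊥)
    (hmin : ∀ K : Subgroup G, K.Normal → K ≤ M → K = ⊥ ∨ K = M)
    (huniq : ∀ K : Subgroup G, K.Normal → K ≠ ⊥ → M ≤ K)
    (hpG : Dg G p) (hlack : ¬ Dg (G ⧸ M) p) (hqM : Dg (G ⧸ M) q) (hrM : Dg (G ⧸ M) r)
    (hno : ∀ χ : Cfsg.IrrCharacter G, ¬ p * q ∣ Cfsg.charDegree (χ : G → ℂ) ∧
      ¬ q * r ∣ Cfsg.charDegree (χ : G → ℂ) ∧ ¬ p * r ∣ Cfsg.charDegree (χ : G → ℂ)) : False := by
  classical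
  obtain ⟨hdiv, -, hseq, -⟩ := lack M hMp hmin hpG hlack
  let Psyl : Sylow p G := default
  obtain ⟨hPn, hMP, hPP⟩ := hseq rfl Psyl
  set P : Subgroup G := (Psyl : Subgroup G) with hPdef
  haveI := hPn
  have hcop : (Nat.card P).Coprime P.index := by
    obtain ⟨k, hk⟩ := IsPGroup.iff_card.1 Psyl.isPGroup'
    rw [hk]
    exact ((hp.out.coprime_iff_not_dvd).2 Psyl.not_dvd_index).pow_left k
  obtain ⟨H, hH⟩ := Subgroup.exists_right_complement'_of_coprime hcop
  have hcent : ∀ m ∈ M, ∀ x ∈ P, m * x = x * m := by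
    haveI : Group.IsNilpotent P := Psyl.isPGroup'.isNilpotent
    have hne : M.subgroupOf P ≠ ⊥ := fun h0 => hM (by
      rw [Subgroup.subgroupOf_eq_bot, disjoint_iff, inf_eq_left.2 hMP] at h0
      exact h0)
    have hne2 := SolvStruct.inf_center_ne_bot (N := M.subgroupOf P) hne
    rcases hmin (M ⊓ Subgroup.centralizer (P : Set G)) inferInstance inf_le_left with h1 | h1
    · refine absurd (eq_bot_iff.2 fun x hx => ?_) hne2
      have h2 : (x : G) ∈ M ⊓ Subgroup.centralizer (P : Set G) :=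
        ⟨hx.1, Subgroup.mem_centralizer_iff.2 fun z hz =>
          congrArg Subtype.val (Subgroup.mem_center_iff.1 hx.2 ⟨z, hz⟩)⟩
      rw [h1, Subgroup.mem_bot] at h2
      exact Subgroup.mem_bot.2 (Subtype.ext h2)
    · intro m hm x hx
      exact (Subgroup.mem_centralizer_iff.1 ((h1 ▸ inf_le_right : M ≤ _) hm) x hx).symm
  have hdis : P ⊓ H = ⊥ := disjoint_iff.1 hH.disjoint
  have hfaith : H ⊓ Subgroup.centralizer (P : Set G) = ⊥ := by
    by_contra hK
    have hKn : (H ⊓ Subgroup.centralizer (P : Set G)).Normal := by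
      rw [← Subgroup.normalizer_eq_top_iff, eq_top_iff, ← hH.sup_eq_top, sup_le_iff]
      constructor
      · refine le_trans ?_ (Subgroup.centralizer_le_normalizer _)
        rw [Subgroup.le_centralizer_iff]
        exact inf_le_right
      · exact (le_inf Subgroup.le_normalizer Subgroup.le_normalizer_of_normal).trans
          Subgroup.inf_normalizer_le_normalizer_inf
    refine hM (eq_bot_iff.2 ?_)
    rw [← hdis]
    exact le_inf hMP ((huniq _ hKn hK).trans inf_le_left)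
  have ctx : CtxB p M P H := ⟨hMP, hPP, hcent, hdis, hH.sup_eq_top, hfaith, hcop, Psyl.isPGroup',
    hexp, hdiv⟩
  have hqH := ctx.dvd_card_H (Ne.symm hpq) hqM
  have hrH := ctx.dvd_card_H (Ne.symm hpr) hrM
  have hnq : ∀ χ : Cfsg.IrrCharacter G,
      p ∣ Cfsg.charDegree (χ : G → ℂ) → ¬ q ∣ Cfsg.charDegree (χ : G → ℂ) := fun χ h1 h2 =>
    (hno χ).1 (mul_dvd_deg hp.out hq.out hpq h1 h2)
  have hnr : ∀ χ : Cfsg.IrrCharacter G,
      p ∣ Cfsg.charDegree (χ : G → ℂ) → ¬ r ∣ Cfsg.charDegree (χ : G → ℂ) := fun χ h1 h2 =>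
    (hno χ).2.2 (mul_dvd_deg hp.out hr.out hpr h1 h2)
  by_cases hQ : ∃ Q : Sylow q H, (Q : Subgroup H).Normal
  · obtain ⟨Q, hQn⟩ := hQ
    by_cases hR : ∃ R : Sylow r H, (R : Subgroup H).Normal
    · obtain ⟨R, hRn⟩ := hR
      obtain ⟨χ, hχ⟩ := ctx.both_normal hqr hnq hnr hqH hrH Q hQn R hRn
      exact (hno χ).2.1 hχ
    · exact ctx.one_normal hM (Ne.symm hpr) hnr hnq
        (fun χ h1 h2 => (hno χ).2.1 (mul_dvd_deg hq.out hr.out hqr h1 h2)) hqH Q hQn
        (not_exists.1 hR)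
  · by_cases hR : ∃ R : Sylow r H, (R : Subgroup H).Normal
    · obtain ⟨R, hRn⟩ := hR
      exact ctx.one_normal hM (Ne.symm hpq) hnq hnr
        (fun χ h1 h2 => (hno χ).2.1 (mul_dvd_deg hq.out hr.out hqr h2 h1)) hrH R hRn
        (not_exists.1 hQ)
    · letI := charAct M H
      haveI : Finite (M →* ℂˣ) := finite_hom M
      haveI : Finite (Additive (M →* ℂˣ)) := Finite.of_equiv _ Additive.ofMul
      haveI : Nontrivial (Additive (M →* ℂˣ)) := Finite.one_lt_card_iff_nontrivial.1 (by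
        rw [card_additive_hom]
        exact (Subgroup.one_lt_card_iff_ne_bot M).2 hM)
      obtain ⟨m, hm⟩ := IsPGroup.iff_card.1 hMp
      have hexpE : ∀ μ : Additive (M →* ℂˣ), p • μ = 0 := fun μ =>
        congrArg Additive.ofMul (MonoidHom.ext fun x => by
          rw [MonoidHom.pow_apply, ← map_pow, show x ^ p = 1 from Subtype.ext (hexp x x.2),
            map_one, MonoidHom.one_apply])
      obtain ⟨χ, hχ⟩ := pair_quot (D := H) (E := Additive (M →* ℂˣ)) hp.out hexpE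
        ((card_additive_hom M).trans hm) hqr
        (fun μ hμ => (ctx.key1 hnq μ hμ).imp fun _ h => ⟨h.1, h.2.1⟩)
        (fun μ hμ => (ctx.key1 hnr μ hμ).imp fun _ h => ⟨h.1, h.2.1⟩)
        (not_exists.1 hQ) (not_exists.1 hR)
      obtain ⟨e⟩ := complement_equiv P H hdis hH.sup_eq_top
      obtain ⟨χ₁, h₁⟩ := deg_of_equiv e.symm χ
      obtain ⟨χ₂, h₂⟩ := deg_lift P χ₁
      exact (hno χ₂).2.1 (by rw [h₂, h₁]; exact hχ)

end Cfsg.Agent.ThreePrimes
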