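import Cfsg.Agent.Lib.ThreePrimes.CaseBKey
import Cfsg.Agent.Lib.Solvable.Coprime

/-!
# Two normal Sylow subgroups in the complement
-/

set_option autoImplicit false
set_option linter.style.haveILetI false
set_option linter.unusedSectionVars false

namespace Cfsg.Agent.ThreePrimes

open Cfsg.Agent
open scoped commutatorElement

universe u

variable {G : Type u} [Group G] [Finite G]
variable {p : ℕ} {M P H : Subgroup G} [M.Normal] [P.Normal] [IsMulCommutative M]

theorem CtxB.mem_of_linear (h : CtxB p M P H) {x : P} (hx : ∀ f : P →* ℂˣ, f x = 1) :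
    (x : G) ∈ M := by
  haveI : Finite (Abelianization P) := inferInstanceAs (Finite (P ⧸ commutator P))
  haveI : IsMulCommutative (Abelianization P) := ⟨⟨fun a b => mul_comm a b⟩⟩
  have h1 : x ∈ commutator P := by
    have h2 : (x : P ⧸ commutator P) = 1 := by
      by_contra hne
      obtain ⟨f, hf⟩ := exists_linear_ne_one (A := Abelianization P) (a := Abelianization.of x) hne
      exact hf (hx (f.comp Abelianization.of))
    exact (QuotientGroup.eq_one_iff x).1 h2
  rw [← h.comm, ← Subgroup.map_subtype_commutator]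
  exact ⟨x, h1, rfl⟩

/-- A non-trivial subgroup of the complement centralising `M` moves a linear character of `P`. -/
theorem CtxB.exists_moved [Group.IsSolvable G] (h : CtxB p M P H) (T : Subgroup H) (hT : T ≠ ⊥)
    (hTM : ∀ y ∈ T, ∀ m ∈ M, (y : G) * m = m * y) :
    letI := charAct P H
    ∃ f : Additive (P →* ℂˣ), ¬ T ≤ MulAction.stabilizer H f := by
  letI := charAct P H
  by_contra hall
  simp only [not_exists, not_not] at hall
  refine hT ?_
  set T' : Subgroup G := T.map H.subtype with hT'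
  have hle : T' ≤ Subgroup.normalizer (P : Set G) := Subgroup.le_normalizer_of_normal
  have hcop : (Nat.card T').Coprime (Nat.card P) := by
    refine (h.cop.symm).coprime_dvd_left ?_
    rw [← h.card_H]
    exact Subgroup.card_dvd_of_le (Subgroup.map_subtype_le T)
  have h1 : ⁅P, T'⁆ ≤ M := by
    rw [Subgroup.commutator_le]
    rintro x hx _ ⟨y, hy, rfl⟩
    have hy' : (y : G) * x * (y : G)⁻¹ ∈ P := ‹P.Normal›.conj_mem x hx y
    have h2 : ((⟨x, hx⟩ * ⟨_, hy'⟩⁻¹ : P) : G) ∈ M := h.mem_of_linear fun f => by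
      have h3 := (hall (Additive.ofMul f)) hy
      rw [stabilizer_charAct P H (Additive.ofMul f), Subgroup.mem_subgroupOf,
        mem_inertia_linear] at h3
      rw [map_mul, map_inv, mul_inv_eq_one]
      exact (h3 ⟨x, hx⟩ ⟨_, hy'⟩ rfl).symm
    simpa [commutatorElement_def, mul_assoc] using h2
  have h2 : ⁅⁅P, T'⁆, T'⁆ = ⊥ := by
    refine eq_bot_iff.2 ((Subgroup.commutator_mono h1 le_rfl).trans ?_)
    rw [Subgroup.commutator_le]
    rintro m hm _ ⟨y, hy, rfl⟩
    rw [Subgroup.mem_bot, commutatorElement_eq_one_iff_mul_comm]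
    exact (hTM y hy m hm).symm
  rw [CoprimeAct.commutator_commutator hle hcop (Or.inl inferInstance)] at h2
  rw [eq_bot_iff]
  intro y hy
  rw [Subgroup.mem_bot]
  refine Subtype.ext ?_
  have h3 : (y : G) ∈ H ⊓ Subgroup.centralizer (P : Set G) := by
    refine ⟨y.2, Subgroup.mem_centralizer_iff.2 fun x hx => ?_⟩
    have h4 : ⁅x, (y : G)⁆ ∈ (⊥ : Subgroup G) :=
      h2 ▸ Subgroup.commutator_mem_commutator hx ⟨y, hy, rfl⟩
    exact commutatorElement_eq_one_iff_mul_comm.1 (Subgroup.mem_bot.1 h4)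
  rw [h.faithful] at h3
  exact Subgroup.mem_bot.1 h3

/-- Elements of the complement fixing all linear characters of `M` centralise `M`. -/
theorem centralizes_of_fix {y : H}
    (hy : letI := charAct M H
      ∀ μ : Additive (M →* ℂˣ), y ∈ MulAction.stabilizer H μ) :
    ∀ m ∈ M, (y : G) * m = m * y := by
  letI := charAct M H
  intro m hm
  by_contra hne
  have hmem : (y : G) * m * (y : G)⁻¹ ∈ M := ‹M.Normal›.conj_mem m hm y
  have ha : (⟨m, hm⟩ : M) * (⟨_, hmem⟩ : M)⁻¹ ≠ 1 := fun e => hne (by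
    have e' : m = (y : G) * m * (y : G)⁻¹ := congrArg Subtype.val (mul_inv_eq_one.1 e)
    exact (eq_mul_inv_iff_mul_eq.1 e').symm)
  obtain ⟨f, hf⟩ := exists_linear_ne_one ha
  have h3 := hy (Additive.ofMul f)
  rw [stabilizer_charAct M H (Additive.ofMul f), Subgroup.mem_subgroupOf, mem_inertia_linear] at h3
  exact hf (by rw [map_mul, map_inv, mul_inv_eq_one]; exact (h3 ⟨m, hm⟩ ⟨_, hmem⟩ rfl).symm)

theorem dvd_index_of_not_le {D : Type u} [Group D] [Finite D] {t : ℕ} [ht : Fact t.Prime]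
    (Q : Sylow t D) (hn : (Q : Subgroup D).Normal) {J : Subgroup D}
    (hJ : ¬ (Q : Subgroup D) ≤ J) : t ∣ J.index := by
  haveI := hn
  by_contra hnd
  obtain ⟨k, hk⟩ := IsPGroup.iff_card.1 Q.isPGroup'
  have h1 : J.relIndex (Q : Subgroup D) = 1 := by
    refine Nat.eq_one_of_dvd_coprimes (((ht.out.coprime_iff_not_dvd).2 hnd).symm.pow_right k)
      (SolvStruct.relIndex_dvd_index_of_normal_right J (Q : Subgroup D)) ?_
    rw [← hk]
    exact Subgroup.relIndex_dvd_card _ _
  exact hJ (Subgroup.relIndex_eq_one.1 h1)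

theorem CtxB.sylow_fixes [Group.IsSolvable G] (h : CtxB p M P H) {t : ℕ} [Fact t.Prime]
    (hpt : ∀ χ : Cfsg.IrrCharacter G,
      p ∣ Cfsg.charDegree (χ : G → ℂ) → ¬ t ∣ Cfsg.charDegree (χ : G → ℂ))
    (T : Sylow t H) (hn : (T : Subgroup H).Normal) :
    ∀ y ∈ (T : Subgroup H), ∀ m ∈ M, (y : G) * m = m * y := by
  intro y hy
  letI := charAct M H
  refine centralizes_of_fix fun μ => ?_
  by_cases hμ : μ = 0
  · rw [hμ]
    exact MulAction.mem_stabilizer_iff.2 ((charAct M H).smul_zero y)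
  obtain ⟨T', hT', -, -⟩ := h.key1 hpt μ hμ
  haveI := T.unique_of_normal hn
  rw [Subsingleton.elim T' T] at hT'
  exact hT' hy

theorem CtxB.both_normal [Group.IsSolvable G] (h : CtxB p M P H) {q r : ℕ} [hq : Fact q.Prime]
    [hr : Fact r.Prime] (hqr : q ≠ r)
    (hpq : ∀ χ : Cfsg.IrrCharacter G,
      p ∣ Cfsg.charDegree (χ : G → ℂ) → ¬ q ∣ Cfsg.charDegree (χ : G → ℂ))
    (hpr : ∀ χ : Cfsg.IrrCharacter G,
      p ∣ Cfsg.charDegree (χ : G → ℂ) → ¬ r ∣ Cfsg.charDegree (χ : G → ℂ))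
    (hqH : q ∣ Nat.card H) (hrH : r ∣ Nat.card H)
    (Q : Sylow q H) (hQn : (Q : Subgroup H).Normal)
    (R : Sylow r H) (hRn : (R : Subgroup H).Normal) :
    ∃ χ : Cfsg.IrrCharacter G, q * r ∣ Cfsg.charDegree (χ : G → ℂ) := by
  classical
  letI := charAct P H
  obtain ⟨a, ha⟩ := h.exists_moved (Q : Subgroup H) (Q.ne_bot_of_dvd_card hqH)
    (h.sylow_fixes hpq Q hQn)
  obtain ⟨b, hb⟩ := h.exists_moved (R : Subgroup H) (R.ne_bot_of_dvd_card hrH)
    (h.sylow_fixes hpr R hRn)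
  obtain ⟨f, hfQ, hfR⟩ : ∃ f : Additive (P →* ℂˣ),
      f ∉ fixS (Additive (P →* ℂˣ)) (Q : Subgroup H) ∧
      f ∉ fixS (Additive (P →* ℂˣ)) (R : Subgroup H) := by
    replace ha : a ∉ fixS (Additive (P →* ℂˣ)) (Q : Subgroup H) := fun h' => ha (mem_fixS.1 h')
    replace hb : b ∉ fixS (Additive (P →* ℂˣ)) (R : Subgroup H) := fun h' => hb (mem_fixS.1 h')
    by_cases h1 : a ∈ fixS (Additive (P →* ℂˣ)) (R : Subgroup H)
    · by_cases h2 : b ∈ fixS (Additive (P →* ℂˣ)) (Q : Subgroup H)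
      · exact ⟨a + b, fun h3 => ha ((AddSubgroup.add_mem_cancel_right _ h2).1 h3),
          fun h3 => hb ((AddSubgroup.add_mem_cancel_left _ h1).1 h3)⟩
      · exact ⟨b, h2, hb⟩
    · exact ⟨a, ha, h1⟩
  rw [mem_fixS, stabilizer_charAct P H f] at hfQ hfR
  have hirr := Char.isIrrCharacter_linear (Additive.toMul f)
  have hidx : q * r ∣ (Char.inertia P fun n : P => (Additive.toMul f n : ℂ)).index := by
    rw [index_inertia P H h.dis h.sup hirr]
    exact mul_dvd_deg hq.out hr.out hqr (dvd_index_of_not_le Q hQn hfQ)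
      (dvd_index_of_not_le R hRn hfR)
  haveI := Fintype.ofFinite G
  haveI : Fintype P := Fintype.ofFinite P
  obtain ⟨χ, hχ⟩ := Char.Ito.exists_above P ⟨_, hirr⟩
  exact ⟨χ, hidx.trans (orbit_dvd P χ hirr hχ)⟩

end Cfsg.Agent.ThreePrimes
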