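import Cfsg.Agent.Lib.ThreePrimes.CaseA
import Cfsg.Agent.Lib.Char.CoprimeConstituent
import Cfsg.Agent.Lib.Char.DegreeCenter

/-!
# Characters over a central subgroup of the normal Sylow subgroup
-/

set_option autoImplicit false
set_option linter.style.haveILetI false
set_option linter.unusedSectionVars false

namespace Cfsg.Agent.ThreePrimes

open Cfsg.Agent
open scoped commutatorElement

universe u

variable {G : Type u} [Group G] [Finite G]

/-- The configuration in which the lost prime is the prime of the minimal normal subgroup. -/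
structure CtxB (p : ℕ) (M P H : Subgroup G) : Prop where
  le : M ≤ P
  comm : ⁅P, P⁆ = M
  central : ∀ m ∈ M, ∀ x ∈ P, m * x = x * m
  dis : P ⊓ H = ⊥
  sup : P ⊔ H = ⊤
  faithful : H ⊓ Subgroup.centralizer (P : Set G) = ⊥
  cop : (Nat.card P).Coprime P.index
  pgroup : IsPGroup p P
  expM : ∀ x ∈ M, x ^ p = 1
  deg : ∀ χ : Cfsg.IrrCharacter G, Nontriv M χ → p ∣ Cfsg.charDegree (χ : G → ℂ)

variable {p : ℕ} {M P H : Subgroup G} [M.Normal] [P.Normal] [IsMulCommutative M]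

theorem CtxB.card_H (h : CtxB p M P H) : Nat.card H = P.index := by
  obtain ⟨e⟩ := complement_equiv P H h.dis h.sup
  exact Nat.card_congr e.toEquiv

theorem CtxB.dvd_card_H (h : CtxB p M P H) [hp : Fact p.Prime] {t : ℕ} [ht : Fact t.Prime]
    (htp : t ≠ p) (hd : Dg (G ⧸ M) t) : t ∣ Nat.card H := by
  obtain ⟨χ, hχ⟩ := hd
  obtain ⟨χ', h'⟩ := deg_lift M χ
  have h1 : t ∣ Nat.card G := (h' ▸ hχ : t ∣ Cfsg.charDegree (χ' : G → ℂ)).trans
    (CharX.irr_deg_dvd_card χ')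
  rw [← P.card_mul_index, ← h.card_H] at h1
  refine (ht.out.dvd_mul.1 h1).resolve_left fun h2 => htp ?_
  obtain ⟨k, hk⟩ := IsPGroup.iff_card.1 h.pgroup
  exact (Nat.prime_dvd_prime_iff_eq ht.out hp.out).1 (ht.out.dvd_of_dvd_pow (hk ▸ h2))

theorem CtxB.central_restrict (h : CtxB p M P H) {θ : P → ℂ} (hθ : Cfsg.IsIrrCharacter P θ) :
    ∃ μ : M →* ℂˣ, ∀ m : M, θ ⟨m, h.le m.2⟩ = θ 1 * (μ m : ℂ) := by
  have hc : ∀ m : M, ∃ c : ℂˣ, ∀ g : P, θ (⟨m, h.le m.2⟩ * g) = c * θ g := by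
    intro m
    obtain ⟨c, hc1, hc2, -⟩ := Char.IsIrrCharacter.exists_central_scalar hθ
      (z := ⟨m, h.le m.2⟩) (Subgroup.mem_center_iff.2 fun g =>
        Subtype.ext (h.central m m.2 g g.2).symm)
    exact ⟨Units.mk0 c (fun e => by rw [e, norm_zero] at hc1; exact zero_ne_one hc1), hc2⟩
  choose c hc using hc
  have h1 : θ 1 ≠ 0 := Char.IsIrrCharacter.one_ne_zero hθ
  have hval : ∀ m : M, θ ⟨m, h.le m.2⟩ = θ 1 * (c m : ℂ) := fun m => by
    have := hc m 1
    rwa [mul_one, mul_comm] at this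
  refine ⟨MonoidHom.mk' c fun a b => Units.ext ?_, hval⟩
  refine mul_left_cancel₀ h1 ?_
  have e := hc a ⟨b, h.le b.2⟩
  rw [Units.val_mul, ← hval (a * b)]
  refine (show θ ⟨((a * b : M) : G), h.le (a * b).2⟩ = _ from e).trans ?_
  rw [hval b]
  ring

theorem CtxB.inertia_le (h : CtxB p M P H) {θ : P → ℂ} (hθ : Cfsg.IsIrrCharacter P θ)
    {μ : M →* ℂˣ} (hμ : ∀ m : M, θ ⟨m, h.le m.2⟩ = θ 1 * (μ m : ℂ)) :
    Char.inertia P θ ≤ Char.inertia M (fun m : M => (μ m : ℂ)) := by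
  intro g hg
  rw [Char.mem_inertia_iff] at hg ⊢
  intro m
  refine mul_left_cancel₀ (Char.IsIrrCharacter.one_ne_zero hθ) ?_
  rw [← hμ, ← hμ]
  exact hg ⟨m, h.le m.2⟩

theorem CtxB.inner_restrict (h : CtxB p M P H) [Fintype M] {θ : P → ℂ} {μ : M →* ℂˣ}
    (hθ : Cfsg.IsIrrCharacter P θ) (hμ : ∀ m : M, θ ⟨m, h.le m.2⟩ = θ 1 * (μ m : ℂ)) :
    Cfsg.classInner (fun m : M => θ ⟨m, h.le m.2⟩) (fun m : M => (μ m : ℂ)) ≠ 0 := by
  rw [show (fun m : M => θ ⟨m, h.le m.2⟩) = θ 1 • fun m : M => (μ m : ℂ) from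
    funext fun m => by rw [hμ, Pi.smul_apply, smul_eq_mul],
    Char.classInner_smul_left, Char.classInner_self_irr (Char.isIrrCharacter_linear μ), mul_one]
  exact Char.IsIrrCharacter.one_ne_zero hθ

/-- The Sylow subgroups in the stabiliser of a character non-trivial on `M`. -/
theorem CtxB.key0 [Group.IsSolvable G] (h : CtxB p M P H) {t : ℕ} [Fact t.Prime]
    (hpt : ∀ χ : Cfsg.IrrCharacter G,
      p ∣ Cfsg.charDegree (χ : G → ℂ) → ¬ t ∣ Cfsg.charDegree (χ : G → ℂ))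
    {θ : P → ℂ} (hθ : Cfsg.IsIrrCharacter P θ) {μ : M →* ℂˣ}
    (hμ : ∀ m : M, θ ⟨m, h.le m.2⟩ = θ 1 * (μ m : ℂ)) (hμ1 : μ ≠ 1) :
    ∃ T : Sylow t H, (T : Subgroup H) ≤ (Char.inertia P θ).subgroupOf H ∧
      (Char.inertia P θ).subgroupOf H ≤ Subgroup.normalizer ((T : Subgroup H) : Set H) ∧
      IsMulCommutative (T : Subgroup H) := by
  classical
  haveI : Fintype P := Fintype.ofFinite P
  haveI : Fintype M := Fintype.ofFinite M
  haveI := Fintype.ofFinite G
  refine stab_sylow P H h.dis h.sup hθ (coprime_extension P h.cop hθ) fun χ hχ =>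
    hpt χ (h.deg χ ?_)
  refine nontriv_of_over M χ (Char.isIrrCharacter_linear μ) (linear_ne hμ1) ?_
  exact RelGlauberman.mult_trans (Subgroup.inclusion h.le)
    (Char.IsCharacter.restrict (Char.IsIrrCharacter.isCharacter χ.2) P) hθ
    (Char.IsIrrCharacter.isCharacter (Char.isIrrCharacter_linear μ)) hχ (h.inner_restrict hθ hμ)

/-- A linear character of `M` lies under a character of `P` with the same stabiliser. -/
theorem CtxB.exists_over [Group.IsSolvable G] (h : CtxB p M P H) (μ : M →* ℂˣ) :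
    ∃ θ : P → ℂ, Cfsg.IsIrrCharacter P θ ∧ (∀ m : M, θ ⟨m, h.le m.2⟩ = θ 1 * (μ m : ℂ)) ∧
      (Char.inertia M (fun m : M => (μ m : ℂ))).subgroupOf H =
        (Char.inertia P θ).subgroupOf H := by
  classical
  haveI : Fintype P := Fintype.ofFinite P
  haveI : Fintype M := Fintype.ofFinite M
  set S := Char.inertia M (fun m : M => (μ m : ℂ)) ⊓ H with hS
  have hnorm : ∀ s ∈ S, ∀ g ∈ P, s * g * s⁻¹ ∈ P := fun s _ g hg =>
    ‹P.Normal›.conj_mem g hg s
  haveI : (M.subgroupOf P).Normal := Subgroup.Normal.subgroupOf inferInstance P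
  haveI : Fintype (M.subgroupOf P) := Fintype.ofFinite _
  let e := Subgroup.subgroupOfEquivOfLe h.le
  have hNS : ∀ u, ∀ q ∈ M.subgroupOf P,
      CoprimeConst.actConj P S hnorm u q ∈ M.subgroupOf P := fun u q hq =>
    ‹M.Normal›.conj_mem _ hq (u : G)
  have hcopS : (Nat.card P).Coprime (Nat.card S) := by
    refine h.cop.coprime_dvd_right ?_
    rw [← h.card_H]
    exact Subgroup.card_dvd_of_le inf_le_right
  obtain ⟨θ, hinv, hin⟩ := CoprimeConst.exists_inv_over_coprime _ P S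
    (CoprimeConst.actConj P S hnorm) (M.subgroupOf P) hNS rfl inferInstance hcopS
    ⟨fun x => (μ (e x) : ℂ), Char.IsIrrCharacter.comp (Char.isIrrCharacter_linear μ)
      e.toMonoidHom e.surjective⟩
    ((CoprimeConst.isInvQ_conj_iff P S M hnorm h.le hNS fun m : M => (μ m : ℂ)).2 (by
      intro s hs g g' hg
      exact congrArg Units.val ((mem_inertia_linear M).1 (Subgroup.mem_inf.1 hs).1 g g' hg)))
  obtain ⟨ν, hν⟩ := h.central_restrict θ.2
  have hν' : ν = μ := by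
    by_contra hne
    have h1 : Cfsg.classInner (fun m : M => (θ : P → ℂ) ⟨m, h.le m.2⟩)
        (fun m : M => (μ m : ℂ)) ≠ 0 := by
      rw [CoprimeConst.classInner_subgroupOf P M h.le]
      exact hin
    refine h1 ?_
    rw [show (fun m : M => (θ : P → ℂ) ⟨m, h.le m.2⟩) = (θ : P → ℂ) 1 • fun m : M => (ν m : ℂ) from
      funext fun m => by rw [hν, Pi.smul_apply, smul_eq_mul],
      Char.classInner_smul_left, Char.classInner_irr_of_ne (Char.isIrrCharacter_linear ν)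
        (Char.isIrrCharacter_linear μ) (fun e' => hne (MonoidHom.ext fun m =>
          Units.ext (congrFun e' m))), mul_zero]
  subst hν'
  refine ⟨θ, θ.2, hν, le_antisymm (fun x hx => ?_)
    (fun x hx => h.inertia_le θ.2 hν hx)⟩
  rw [Subgroup.mem_subgroupOf, Char.mem_inertia_iff]
  exact fun n => (CoprimeConst.isInv_conj_iff P S hnorm _).1 hinv (x : G)
    (Subgroup.mem_inf.2 ⟨hx, x.2⟩) n _ rfl

theorem CtxB.key1 [Group.IsSolvable G] (h : CtxB p M P H) {t : ℕ} [Fact t.Prime]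
    (hpt : ∀ χ : Cfsg.IrrCharacter G,
      p ∣ Cfsg.charDegree (χ : G → ℂ) → ¬ t ∣ Cfsg.charDegree (χ : G → ℂ))
    (μ : Additive (M →* ℂˣ)) (hμ : μ ≠ 0) :
    letI := charAct M H
    ∃ T : Sylow t H, (T : Subgroup H) ≤ MulAction.stabilizer H μ ∧
      MulAction.stabilizer H μ ≤ Subgroup.normalizer ((T : Subgroup H) : Set H) ∧
      IsMulCommutative (T : Subgroup H) := by
  letI := charAct M H
  obtain ⟨θ, hθ, hθμ, heq⟩ := h.exists_over (Additive.toMul μ)
  rw [stabilizer_charAct M H μ, heq]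
  exact h.key0 hpt hθ hθμ fun e => hμ (Additive.toMul.injective e)

end Cfsg.Agent.ThreePrimes
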