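import Cfsg.Agent.Lib.ThreePrimes.CaseBBoth
import Cfsg.Agent.Lib.Char.ChiefRestrict
import Cfsg.Agent.Lib.Char.Complete

/-!
# One normal Sylow subgroup in the complement
-/

set_option autoImplicit false
set_option linter.style.haveILetI false
set_option linter.unusedSectionVars false

namespace Cfsg.Agent.ThreePrimes

open Cfsg.Agent
open scoped commutatorElement ComplexConjugate

universe u

variable {G : Type u} [Group G] [Finite G]

/-- The elements of `P` centralised by a subgroup of `H`. -/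
def centP (P H : Subgroup G) (R : Subgroup H) : Subgroup G :=
  P ⊓ Subgroup.centralizer ((R.map H.subtype : Subgroup G) : Set G)

/-- Linear characters of exponent `p` killing the centralised elements. -/
def linC (p : ℕ) (P C : Subgroup G) : Subgroup (P →* ℂˣ) where
  carrier := {f | f ^ p = 1 ∧ ∀ c : P, (c : G) ∈ C → f c = 1}
  one_mem' := ⟨one_pow p, fun _ _ => rfl⟩
  mul_mem' := fun {a b} ha hb => ⟨MonoidHom.ext fun x => by
      have h1 : a x ^ p = 1 := DFunLike.congr_fun ha.1 x
      have h2 : b x ^ p = 1 := DFunLike.congr_fun hb.1 x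
      show (a x * b x) ^ p = 1
      rw [mul_pow, h1, h2, one_mul], fun c hc => by
    rw [MonoidHom.mul_apply, ha.2 c hc, hb.2 c hc, one_mul]⟩
  inv_mem' := fun {a} ha => ⟨MonoidHom.ext fun x => by
      have h1 : a x ^ p = 1 := DFunLike.congr_fun ha.1 x
      show (a x)⁻¹ ^ p = 1
      rw [inv_pow, h1, inv_one], fun c hc => by
    rw [MonoidHom.inv_apply, ha.2 c hc, inv_one]⟩

theorem mem_linC {p : ℕ} {P C : Subgroup G} {f : P →* ℂˣ} :
    f ∈ linC p P C ↔ f ^ p = 1 ∧ ∀ c : P, (c : G) ∈ C → f c = 1 := Iff.rfl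

variable {p : ℕ} {M P H : Subgroup G} [M.Normal] [P.Normal] [IsMulCommutative M]

theorem linC_stable {R : Subgroup H} [hR : R.Normal] (y : H) {f : P →* ℂˣ}
    (hf : f ∈ linC p P (centP P H R)) :
    f.comp (Char.conjHom P ((y : G)⁻¹)) ∈ linC p P (centP P H R) := by
  rw [mem_linC] at hf ⊢
  refine ⟨MonoidHom.ext fun x => ?_, fun c hc => hf.2 _ ⟨Subtype.coe_prop _, ?_⟩⟩
  · exact DFunLike.congr_fun hf.1 (Char.conjHom P ((y : G)⁻¹) x)
  · refine Subgroup.mem_centralizer_iff.2 ?_
    rintro _ ⟨z, hz, rfl⟩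
    have h1 := Subgroup.mem_centralizer_iff.1 hc.2 _
      ⟨y * z * y⁻¹, hR.conj_mem z hz y, rfl⟩
    simp only [Subgroup.coe_subtype, Subgroup.coe_mul, InvMemClass.coe_inv] at h1
    simp only [Char.conjHom_coe, inv_inv, Subgroup.coe_subtype]
    calc (z : G) * ((y : G)⁻¹ * c * y)
        = (y : G)⁻¹ * ((y : G) * z * (y : G)⁻¹ * c) * y := by group
      _ = (y : G)⁻¹ * c * y * z := by rw [h1]; group

open scoped IsMulCommutative in
/-- A subgroup acts on a stable group of linear characters. -/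
@[reducible] noncomputable def charActSub (N H : Subgroup G) [N.Normal] (S : Subgroup (N →* ℂˣ))
    (hS : ∀ (y : H), ∀ f ∈ S, f.comp (Char.conjHom N ((y : G)⁻¹)) ∈ S) :
    DistribMulAction H (Additive S) where
  smul y e := Additive.ofMul ⟨_, hS y _ (Additive.toMul e).2⟩
  one_smul e := congrArg Additive.ofMul (Subtype.ext (MonoidHom.ext fun n =>
    congrArg (fun z : N => (Additive.toMul e : S).1 z) (Subtype.ext (by simp))))
  mul_smul a b e := congrArg Additive.ofMul (Subtype.ext (MonoidHom.ext fun n =>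
    congrArg (fun z : N => (Additive.toMul e : S).1 z) (Subtype.ext (by simp [mul_assoc]))))
  smul_zero y := congrArg Additive.ofMul (Subtype.ext (MonoidHom.ext fun n => rfl))
  smul_add y e e' := congrArg Additive.ofMul (Subtype.ext (MonoidHom.ext fun n => rfl))

theorem stabilizer_charActSub (N H : Subgroup G) [N.Normal] (S : Subgroup (N →* ℂˣ))
    (hS : ∀ (y : H), ∀ f ∈ S, f.comp (Char.conjHom N ((y : G)⁻¹)) ∈ S) (e : Additive S) :
    letI := charActSub N H S hS
    MulAction.stabilizer H e =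
      (Char.inertia N (fun n : N => ((Additive.toMul e : S).1 n : ℂ))).subgroupOf H := by
  letI := charActSub N H S hS
  letI := charAct N H
  refine Eq.trans ?_ (stabilizer_charAct N H (Additive.ofMul (Additive.toMul e : S).1))
  ext y
  rw [MulAction.mem_stabilizer_iff, MulAction.mem_stabilizer_iff]
  exact ⟨fun h => congrArg (fun x : Additive S => Additive.ofMul (Additive.toMul x : S).1) h,
    fun h => Additive.toMul.injective (Subtype.ext (congrArg Additive.toMul h))⟩

theorem CtxB.le_centP (h : CtxB p M P H) {R : Subgroup H}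
    (hRM : ∀ y ∈ R, ∀ m ∈ M, (y : G) * m = m * y) : M ≤ centP P H R := fun m hm =>
  ⟨h.le hm, Subgroup.mem_centralizer_iff.2 (by
    rintro _ ⟨y, hy, rfl⟩
    exact hRM y hy m hm)⟩

theorem CtxB.coprime_map (h : CtxB p M P H) (R : Subgroup H) :
    (Nat.card (R.map H.subtype)).Coprime (Nat.card P) := by
  refine (h.cop.symm).coprime_dvd_left ?_
  rw [← h.card_H]
  exact Subgroup.card_dvd_of_le (Subgroup.map_subtype_le R)

/-- A linear character killing the centralised part and the commutators is trivial. -/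
theorem CtxB.eq_one_of_kills [Group.IsSolvable G] (h : CtxB p M P H) (R : Subgroup H)
    {f : P →* ℂˣ} (h1 : ∀ c : P, (c : G) ∈ centP P H R → f c = 1)
    (h2 : ∀ c : P, (c : G) ∈ ⁅P, R.map H.subtype⁆ → f c = 1) : f = 1 := by
  have hle : ⁅P, R.map H.subtype⁆ ⊔ centP P H R ≤ f.ker.map P.subtype := by
    refine sup_le (fun x hx => ?_) (fun x hx => ⟨⟨x, hx.1⟩, h1 _ hx, rfl⟩)
    exact ⟨⟨x, CoprimeAct.commutator_le_left Subgroup.le_normalizer_of_normal hx⟩, h2 _ hx, rfl⟩
  rw [centP, CoprimeAct.commutator_sup_centralizer Subgroup.le_normalizer_of_normal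
    (h.coprime_map R) (Or.inl inferInstance)] at hle
  refine MonoidHom.ext fun x => ?_
  obtain ⟨y, hy, hyx⟩ := hle x.2
  rw [← show y = x from Subtype.ext hyx]
  exact hy

theorem CtxB.eq_one_of_fixed [Group.IsSolvable G] (h : CtxB p M P H) (R : Subgroup H)
    {f : P →* ℂˣ} (h1 : ∀ c : P, (c : G) ∈ centP P H R → f c = 1)
    (h2 : R ≤ (Char.inertia P (fun n : P => (f n : ℂ))).subgroupOf H) : f = 1 := by
  refine h.eq_one_of_kills R h1 fun c hc => ?_
  have hle : ⁅P, R.map H.subtype⁆ ≤ f.ker.map P.subtype := by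
    rw [Subgroup.commutator_le]
    rintro x hx _ ⟨y, hy, rfl⟩
    have hy' : (y : G) * x⁻¹ * (y : G)⁻¹ ∈ P := ‹P.Normal›.conj_mem _ (inv_mem hx) y
    refine ⟨⟨x, hx⟩ * ⟨_, hy'⟩, ?_, by simp [commutatorElement_def, mul_assoc]⟩
    rw [SetLike.mem_coe, MonoidHom.mem_ker, map_mul]
    have h3 := (mem_inertia_linear P).1 (Subgroup.mem_subgroupOf.1 (h2 hy)) (⟨x, hx⟩⁻¹) ⟨_, hy'⟩ rfl
    rw [h3, map_inv, mul_inv_cancel]
  obtain ⟨z, hz, hzc⟩ := hle hc
  rw [← show z = c from Subtype.ext hzc]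
  exact hz

/-- A character of degree greater than one vanishes where `R` moves modulo `M`. -/
theorem CtxB.vanish [Group.IsSolvable G] (h : CtxB p M P H) {r : ℕ} [Fact r.Prime]
    (hpr : ∀ χ : Cfsg.IrrCharacter G,
      p ∣ Cfsg.charDegree (χ : G → ℂ) → ¬ r ∣ Cfsg.charDegree (χ : G → ℂ))
    (R : Sylow r H) (hRn : (R : Subgroup H).Normal) {g : P}
    (hg : (g : G) ∉ centP P H (R : Subgroup H)) {θ : P → ℂ} (hθ : Cfsg.IsIrrCharacter P θ)
    (h1 : θ 1 ≠ 1) : θ g = 0 := by
  classical
  haveI : Fintype P := Fintype.ofFinite P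
  haveI : (M.subgroupOf P).Normal := Subgroup.Normal.subgroupOf inferInstance P
  haveI : Fintype (M.subgroupOf P) := Fintype.ofFinite _
  obtain ⟨μ, hμ⟩ := h.central_restrict hθ
  have hμ1 : μ ≠ 1 := by
    rintro rfl
    refine h1 ?_
    have hab : ∀ x y : P, x * y * x⁻¹ * y⁻¹ ∈ M.subgroupOf P := fun x y => by
      rw [Subgroup.mem_subgroupOf, ← h.comm]
      exact Subgroup.commutator_mem_commutator x.2 y.2
    have hval : (fun x : M.subgroupOf P => θ x) = θ 1 • fun _ : M.subgroupOf P => (1 : ℂ) :=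
      funext fun x => by
        rw [Pi.smul_apply, smul_eq_mul]
        have h' := hμ ⟨_, x.2⟩
        rw [MonoidHom.one_apply, Units.val_one] at h'
        exact h'
    have := Char.restrict_eq_of_abelian (M.subgroupOf P) hab Char.isIrrCharacter_one
      (ψ := fun _ => 1) Char.isIrrCharacter_one hθ
      (by rw [Char.classInner_self_irr Char.isIrrCharacter_one]; exact one_ne_zero)
      (by
        rw [hval, Char.classInner_smul_left, Char.classInner_self_irr Char.isIrrCharacter_one,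
          mul_one]
        exact Char.IsIrrCharacter.one_ne_zero hθ)
    exact congrFun this 1
  by_contra h0
  have hfix : ∀ {η : P → ℂ}, Cfsg.IsIrrCharacter P η →
      (∀ m : M, η ⟨m, h.le m.2⟩ = η 1 * (μ m : ℂ)) → ∀ y ∈ (R : Subgroup H), ∀ n : P,
        η ⟨(y : G) * n * (y : G)⁻¹, ‹P.Normal›.conj_mem n n.2 y⟩ = η n := by
    intro η hη hημ y hy n
    obtain ⟨T, hT, -, -⟩ := h.key0 hpr hη hημ hμ1
    haveI := R.unique_of_normal hRn
    rw [Subsingleton.elim T R] at hT
    exact (Char.mem_inertia_iff P).1 (Subgroup.mem_subgroupOf.1 (hT hy)) n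
  have hRM : ∀ y ∈ (R : Subgroup H), ∀ m ∈ M, (y : G) * m = m * y := h.sylow_fixes hpr R hRn
  have hmove : ∀ a ∈ (R : Subgroup H).map H.subtype, a * (g : G) * a⁻¹ * (g : G)⁻¹ ∈ M := by
    rintro _ ⟨y, hy, rfl⟩
    set g' : P := ⟨(y : G) * g * (y : G)⁻¹, ‹P.Normal›.conj_mem g g.2 y⟩ with hg'
    have h2 : ((g' * g⁻¹ : P) : G) ∈ M := h.mem_of_linear fun f => by
      rw [map_mul, map_inv, mul_inv_eq_one]
      have hirr := Char.ChiefRestrict.isIrr_mul_linear hθ f
      have hfM : ∀ m : M, f ⟨m, h.le m.2⟩ = 1 := fun m => by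
        have hm : (⟨m, h.le m.2⟩ : P) ∈ commutator P := by
          have h3 : (m : G) ∈ (commutator P).map P.subtype := by
            rw [Subgroup.map_subtype_commutator, h.comm]
            exact m.2
          obtain ⟨z, hz, hzm⟩ := h3
          rwa [show (⟨m, h.le m.2⟩ : P) = z from Subtype.ext hzm.symm]
        exact MonoidHom.mem_ker.1 (Abelianization.commutator_subset_ker f hm)
      have e1 := hfix hθ hμ y hy g
      have e2 := hfix hirr (fun m => by
        simp only [hfM m, map_one, Units.val_one, one_mul]; exact hμ m) y hy g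
      beta_reduce at e2
      rw [e1] at e2
      exact Units.ext (mul_right_cancel₀ h0 e2)
    simpa using h2
  obtain ⟨c, hc, hgc⟩ := CoprimeAct.exists_mem_centralizer
    (A := (R : Subgroup H).map H.subtype) (K := P) Subgroup.le_normalizer_of_normal
    (h.coprime_map _) (Or.inl inferInstance) h.le Subgroup.le_normalizer_of_normal
    Subgroup.le_normalizer_of_normal g.2 hmove
  refine hg ?_
  have h4 : (g : G) = c * ((g : G)⁻¹ * c)⁻¹ := by group
  rw [h4]
  exact mul_mem hc (inv_mem (h.le_centP hRM hgc))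

theorem sum_norm_sq_eq_index {K : Type u} [Group K] [Fintype K] {g : K}
    (h : ∀ θ : Cfsg.IrrCharacter K, (θ : K → ℂ) 1 ≠ 1 → (θ : K → ℂ) g = 0) :
    Nat.card (Subgroup.centralizer ({g} : Set K)) = (commutator K).index := by
  classical
  have h1 := Char.column_orth_of_isConj (IsConj.refl g)
  have h2 : ∀ θ : Cfsg.IrrCharacter K, (θ : K → ℂ) g * conj ((θ : K → ℂ) g) =
      if (θ : K → ℂ) 1 = 1 then 1 else 0 := by
    intro θ
    split_ifs with hθ
    · obtain ⟨f, hf⟩ := Char.exists_hom_of_degree_one (Char.IsIrrCharacter.isCharacter θ.2) hθ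
      rw [hf, Complex.mul_conj', Complex.norm_eq_one_of_pow_eq_one ?_ (Nat.card_pos (α := K)).ne']
      · simp
      · rw [← Units.val_pow_eq_pow_val, ← map_pow, pow_card_eq_one', map_one, Units.val_one]
    · rw [h θ hθ, zero_mul]
  simp only [h2] at h1
  rw [← Finset.natCast_card_filter, Nat.cast_inj] at h1
  rw [← h1, ← Char.card_linear, Nat.card_eq_fintype_card, Fintype.card_subtype]

theorem CtxB.card_lt [Group.IsSolvable G] (h : CtxB p M P H) {r : ℕ} [Fact r.Prime]
    (hpr : ∀ χ : Cfsg.IrrCharacter G,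
      p ∣ Cfsg.charDegree (χ : G → ℂ) → ¬ r ∣ Cfsg.charDegree (χ : G → ℂ))
    (R : Sylow r H) (hRn : (R : Subgroup H).Normal)
    {f₀ : P →* ℂˣ} (hf₀ : f₀ ∈ linC p P (centP P H (R : Subgroup H))) (hne : f₀ ≠ 1) :
    Nat.card M < Nat.card (linC p P (centP P H (R : Subgroup H))) := by
  classical
  haveI : Fintype P := Fintype.ofFinite P
  set C := centP P H (R : Subgroup H) with hC
  set R' := (R : Subgroup H).map H.subtype with hR'
  have hle : R' ≤ Subgroup.normalizer (P : Set G) := Subgroup.le_normalizer_of_normal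
  obtain ⟨g, hgR, hgf⟩ : ∃ g : P, (g : G) ∈ ⁅P, R'⁆ ∧ f₀ g ≠ 1 := by
    by_contra hall
    simp only [not_exists, not_and, not_not] at hall
    exact hne (h.eq_one_of_kills _ hf₀.2 hall)
  have hgC : (g : G) ∉ C := fun hg => hgf (hf₀.2 g hg)
  have hRM : ∀ y ∈ (R : Subgroup H), ∀ m ∈ M, (y : G) * m = m * y := h.sylow_fixes hpr R hRn
  -- `g` commutes with the centralised part
  have hgc : ∀ c ∈ C, (g : G) * c = c * g := by
    have h3 : ⁅⁅P, R'⁆, C⁆ = ⊥ := by
      refine Subgroup.commutator_commutator_eq_bot_of_rotate ?_ ?_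
      · have h4 : ⁅R', C⁆ = ⊥ :=
          (Subgroup.commutator_comm R' C).trans
            (Subgroup.commutator_eq_bot_iff_le_centralizer.2 inf_le_right)
        rw [h4, Subgroup.commutator_bot_left]
      · refine eq_bot_iff.2 ((Subgroup.commutator_mono
          ((Subgroup.commutator_mono inf_le_left le_rfl).trans h.comm.le) le_rfl).trans ?_)
        rw [Subgroup.commutator_le]
        rintro m hm _ ⟨y, hy, rfl⟩
        rw [Subgroup.mem_bot, commutatorElement_eq_one_iff_mul_comm]
        exact (hRM y hy m hm).symm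
    intro c hc
    exact (Subgroup.mem_centralizer_iff.1
      ((Subgroup.commutator_eq_bot_iff_le_centralizer.1 h3) hgR) c hc).symm
  have hmem : ∀ w : P, ⁅(g : G), (w : G)⁆ ∈ M := fun w => by
    rw [← h.comm]
    exact Subgroup.commutator_mem_commutator g.2 w.2
  let φ : P →* M := MonoidHom.mk' (fun w => ⟨_, hmem w⟩) fun a b => Subtype.ext (by
    show ⁅(g : G), (a : G) * (b : G)⁆ = ⁅(g : G), (a : G)⁆ * ⁅(g : G), (b : G)⁆
    have e := h.central _ (hmem b) (a : G)⁻¹ (inv_mem a.2)
    rw [show ⁅(g : G), (a : G) * (b : G)⁆ =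
      (g : G) * a * (g : G)⁻¹ * (⁅(g : G), (b : G)⁆ * (a : G)⁻¹) by
        simp [commutatorElement_def, mul_assoc], e]
    simp [commutatorElement_def, mul_assoc])
  have hker : φ.ker = Subgroup.centralizer ({g} : Set P) := by
    ext w
    rw [MonoidHom.mem_ker, Subgroup.mem_centralizer_singleton_iff]
    constructor
    · intro hw
      exact Subtype.ext (commutatorElement_eq_one_iff_mul_comm.1 (congrArg Subtype.val hw)).symm
    · intro hw
      exact Subtype.ext (commutatorElement_eq_one_iff_mul_comm.2 (congrArg Subtype.val hw).symm)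
  have hφ : Function.Surjective φ := by
    have h5 : Nat.card φ.ker = (commutator P).index := by
      rw [hker]
      exact sum_norm_sq_eq_index fun θ hθ => h.vanish hpr R hRn hgC θ.2 hθ
    have h6 : Nat.card (commutator P) = Nat.card M := by
      rw [← h.comm, ← Subgroup.map_subtype_commutator,
        Subgroup.card_map_of_injective P.subtype_injective]
    have h7 : φ.range = ⊤ := by
      refine Subgroup.eq_top_of_card_eq _ ?_
      refine Nat.eq_of_mul_eq_mul_right (Subgroup.index_ne_zero_of_finite.bot_lt :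
        0 < (commutator P).index) ?_
      rw [← h6, Subgroup.card_mul_index, ← h5, ← Subgroup.index_ker, mul_comm,
        Subgroup.card_mul_index]
    exact MonoidHom.range_eq_top.1 h7
  haveI : Finite (P →* ℂˣ) := finite_hom P
  haveI : Finite (M →* ℂˣ) := finite_hom M
  let Ψ : (M →* ℂˣ) → linC p P C := fun μ => ⟨μ.comp φ,
    MonoidHom.ext fun w => by
      rw [MonoidHom.pow_apply, MonoidHom.comp_apply, ← map_pow,
        show φ w ^ p = 1 from Subtype.ext (h.expM _ (φ w).2), map_one, MonoidHom.one_apply],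
    fun c hc => by
      rw [MonoidHom.comp_apply, show φ c = 1 from
        Subtype.ext (commutatorElement_eq_one_iff_mul_comm.2 (hgc c hc)), map_one]⟩
  rw [← card_hom_eq M]
  haveI := Fintype.ofFinite (M →* ℂˣ)
  haveI := Fintype.ofFinite (linC p P C)
  rw [Nat.card_eq_fintype_card, Nat.card_eq_fintype_card]
  refine Fintype.card_lt_of_injective_not_surjective Ψ
    (fun a b e => (MonoidHom.cancel_right hφ).1 (congrArg Subtype.val e)) fun hs => ?_
  obtain ⟨μ, hμ⟩ := hs ⟨f₀, hf₀⟩
  have h8 := DFunLike.congr_fun (congrArg Subtype.val hμ) g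
  refine hgf (h8.symm.trans ?_)
  show μ (φ g) = 1
  rw [show φ g = 1 from Subtype.ext (commutatorElement_self _), map_one]

theorem CtxB.exists_linC [Group.IsSolvable G] (h : CtxB p M P H) [hp : Fact p.Prime] (R : Subgroup H)
    (hR : R ≠ ⊥) (hRM : ∀ y ∈ R, ∀ m ∈ M, (y : G) * m = m * y) :
    ∃ f ∈ linC p P (centP P H R), f ≠ 1 := by
  set C := centP P H R with hC
  have hCn : (C.subgroupOf P).Normal := ⟨fun c hc x => by
    have h1 : ⁅(x : G), (c : G)⁆ ∈ C :=
      h.le_centP hRM (h.comm ▸ Subgroup.commutator_mem_commutator x.2 c.2)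
    rw [Subgroup.mem_subgroupOf] at hc ⊢
    simpa [commutatorElement_def] using mul_mem h1 hc⟩
  haveI : IsMulCommutative (P ⧸ C.subgroupOf P) := ⟨⟨fun a b => by
    obtain ⟨x, rfl⟩ := QuotientGroup.mk_surjective a
    obtain ⟨y, rfl⟩ := QuotientGroup.mk_surjective b
    rw [← commutatorElement_eq_one_iff_mul_comm]
    exact (QuotientGroup.eq_one_iff ⁅x, y⁆).2
      (h.le_centP hRM (h.comm ▸ Subgroup.commutator_mem_commutator x.2 y.2))⟩⟩
  obtain ⟨x, hx⟩ : ∃ x : P, (x : G) ∉ C := by
    by_contra hall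
    simp only [not_exists, not_not] at hall
    refine hR (eq_bot_iff.2 fun y hy => ?_)
    have h1 : (y : G) ∈ H ⊓ Subgroup.centralizer (P : Set G) :=
      ⟨y.2, Subgroup.mem_centralizer_iff.2 fun z hz =>
        (Subgroup.mem_centralizer_iff.1 (hall ⟨z, hz⟩).2 _ ⟨y, hy, rfl⟩).symm⟩
    rw [h.faithful] at h1
    exact Subgroup.mem_bot.2 (Subtype.ext (Subgroup.mem_bot.1 h1))
  obtain ⟨f, hf⟩ := exists_linear_ne_one (a := (QuotientGroup.mk x : P ⧸ C.subgroupOf P))
    (fun e => hx ((QuotientGroup.eq_one_iff x).1 e))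
  set f₁ : P →* ℂˣ := f.comp (QuotientGroup.mk' _) with hf₁
  have hkill : ∀ c : P, (c : G) ∈ C → f₁ c = 1 := fun c hc => by
    show f (QuotientGroup.mk c) = 1
    rw [(QuotientGroup.eq_one_iff c).2 (Subgroup.mem_subgroupOf.2 hc), map_one]
  obtain ⟨k, hk⟩ := IsPGroup.iff_card.1 h.pgroup
  have hpow : f₁ ^ p ^ k = 1 := MonoidHom.ext fun z => by
    rw [MonoidHom.pow_apply, ← map_pow, ← hk, pow_card_eq_one', map_one, MonoidHom.one_apply]
  have hne : f₁ ^ p ^ 0 ≠ 1 := fun e => hf (by
    have e' := DFunLike.congr_fun e x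
    rwa [MonoidHom.pow_apply, pow_zero, pow_one] at e')
  classical
  have hex : ∃ i, f₁ ^ p ^ i = 1 := ⟨k, hpow⟩
  obtain ⟨j, hj⟩ := Nat.exists_eq_succ_of_ne_zero (fun h0 => hne (h0 ▸ Nat.find_spec hex) :
    Nat.find hex ≠ 0)
  refine ⟨f₁ ^ p ^ j, ⟨?_, fun c hc => by rw [MonoidHom.pow_apply, hkill c hc, one_pow]⟩,
    Nat.find_min hex (hj ▸ Nat.lt_succ_self j)⟩
  refine MonoidHom.ext fun z => ?_
  rw [MonoidHom.pow_apply, MonoidHom.pow_apply, ← pow_mul, ← pow_succ]
  have hspec := Nat.find_spec hex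
  rw [hj] at hspec
  exact DFunLike.congr_fun hspec z

theorem CtxB.one_normal [Group.IsSolvable G] (h : CtxB p M P H) (hM : M ≠ ⊥) [hp : Fact p.Prime]
    {q r : ℕ} [hq : Fact q.Prime] [hr : Fact r.Prime] (hqp : q ≠ p)
    (hpq : ∀ χ : Cfsg.IrrCharacter G,
      p ∣ Cfsg.charDegree (χ : G → ℂ) → ¬ q ∣ Cfsg.charDegree (χ : G → ℂ))
    (hpr : ∀ χ : Cfsg.IrrCharacter G,
      p ∣ Cfsg.charDegree (χ : G → ℂ) → ¬ r ∣ Cfsg.charDegree (χ : G → ℂ))
    (hrq : ∀ χ : Cfsg.IrrCharacter G,
      r ∣ Cfsg.charDegree (χ : G → ℂ) → ¬ q ∣ Cfsg.charDegree (χ : G → ℂ))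
    (hrH : r ∣ Nat.card H) (R : Sylow r H) (hRn : (R : Subgroup H).Normal)
    (hQ : ∀ Q : Sylow q H, ¬ (Q : Subgroup H).Normal) : False := by
  classical
  haveI := hRn
  have hRM : ∀ y ∈ (R : Subgroup H), ∀ m ∈ M, (y : G) * m = m * y := h.sylow_fixes hpr R hRn
  obtain ⟨f₀, hf₀, hne₀⟩ := h.exists_linC (R : Subgroup H) (R.ne_bot_of_dvd_card hrH) hRM
  have hlt := h.card_lt hpr R hRn hf₀ hne₀
  set S := linC p P (centP P H (R : Subgroup H)) with hS
  letI := charAct M H
  letI := charActSub P H S fun y f hf => linC_stable y hf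
  haveI : Finite (P →* ℂˣ) := finite_hom P
  haveI : Finite (M →* ℂˣ) := finite_hom M
  haveI : Finite (Additive S) := Finite.of_equiv _ (Additive.ofMul (α := S))
  haveI : Finite (Additive (M →* ℂˣ)) := Finite.of_equiv _ (Additive.ofMul (α := M →* ℂˣ))
  haveI : Nontrivial (Additive S) :=
    ⟨⟨Additive.ofMul ⟨f₀, hf₀⟩, 0, fun e => hne₀ (congrArg Subtype.val (Additive.ofMul.injective e))⟩⟩
  haveI : Nontrivial (Additive (M →* ℂˣ)) := Finite.one_lt_card_iff_nontrivial.1 (by
    rw [card_additive_hom]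
    exact (Subgroup.one_lt_card_iff_ne_bot M).2 hM)
  have hSp : IsPGroup p S := fun f => ⟨1, Subtype.ext (by rw [pow_one]; exact f.2.1)⟩
  obtain ⟨N, hN⟩ := IsPGroup.iff_card.1 hSp
  obtain ⟨m, hm⟩ := IsPGroup.iff_card.1 (h.pgroup.to_le h.le)
  have hE : Nat.card (Additive S) = p ^ N := (Nat.card_congr Additive.toMul).trans hN
  have hF : Nat.card (Additive (M →* ℂˣ)) = p ^ m := (card_additive_hom M).trans hm
  have hmN : m < N := by
    rw [hm, hN] at hlt
    exact (Nat.pow_lt_pow_iff_right hp.out.one_lt).1 hlt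
  have hRfix : ∀ e : Additive S, (∀ g ∈ (R : Subgroup H), g • e = e) → e = 0 := by
    intro e he
    refine Additive.toMul.injective (Subtype.ext (h.eq_one_of_fixed (R : Subgroup H)
      (Additive.toMul e : S).2.2 ?_))
    rw [← stabilizer_charActSub P H S (fun y f hf => linC_stable y hf) e]
    exact fun g hg => MulAction.mem_stabilizer_iff.2 (he g hg)
  have hsqE : Spread q H (Additive S) := by
    intro e he
    haveI : Fintype P := Fintype.ofFinite P
    rw [stabilizer_charActSub P H S (fun y f hf => linC_stable y hf) e]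
    have hirr := Char.isIrrCharacter_linear (Additive.toMul e : S).1
    refine (stab_sylow P H h.dis h.sup hirr
      (linear_extension P H h.dis h.sup _) fun χ hχ => hrq χ ?_).imp fun Q hQ => ⟨hQ.1, hQ.2.1⟩
    refine (dvd_trans ?_ (orbit_dvd P χ hirr hχ))
    rw [index_inertia P H h.dis h.sup hirr]
    refine dvd_index_of_not_le R hRn fun hle => he (hRfix e fun g hg => ?_)
    rw [← stabilizer_charActSub P H S (fun y f hf => linC_stable y hf) e] at hle
    exact MulAction.mem_stabilizer_iff.1 (hle hg)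
  have hsqF : Spread q H (Additive (M →* ℂˣ)) := fun e he =>
    (h.key1 hpq e he).imp fun Q hQ' => ⟨hQ'.1, hQ'.2.1⟩
  have hn : 1 < Nat.card (Sylow q H) := one_lt_of_not_normal default (hQ default)
  have hRQ : ∀ Q : Sylow q H,
      (R : Subgroup H) ≤ Subgroup.normalizer ((Q : Subgroup H) : Set H) := by
    intro Q
    obtain ⟨e, he, heQ⟩ := hsqF.exists_fixed hn hp.out hF Q
    obtain ⟨Q', hQ', hQn'⟩ := hsqF e he
    obtain rfl := hsqF.eq he heQ (mem_fixS.2 hQ')
    obtain ⟨T, hT, -, -⟩ := h.key1 hpr e he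
    haveI := R.unique_of_normal hRn
    rw [Subsingleton.elim T R] at hT
    exact hT.trans hQn'
  exact small_kernel hp.out hE hF hmN hqp hsqE hn
    (fun Q g hg => hsqF.kernel_normalizes hn hp.out hF Q hg) R hRQ hRfix

end Cfsg.Agent.ThreePrimes
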