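import Cfsg.Agent.Lib.ThreePrimes.Primitive
import Mathlib.GroupTheory.FiniteAbelian.Duality
import Mathlib.Analysis.Complex.Polynomial.Basic
import Mathlib.FieldTheory.Finite.Basic
import Mathlib.LinearAlgebra.FreeModule.Finite.Matrix

/-!
# The exceptional core

A core not centralised by an element of primitive prime order has class two, a central quotient
of square order at most `N ^ 2`, and then this is an equality.
-/

set_option autoImplicit false
set_option linter.style.haveILetI false
set_option linter.unusedSectionVars false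

namespace Cfsg.Agent.ThreePrimes

open Cfsg.Agent
open scoped commutatorElement

universe u v

/-! ## Class two -/

section ClassTwo

variable {P : Type u} [Group P]

theorem pow_conj {g w c : P} (hc : g * w * g⁻¹ = c * w) (hgc : g * c = c * g) (n : ℕ) :
    g ^ n * w * (g ^ n)⁻¹ = c ^ n * w := by
  induction n with
  | zero => simp
  | succ n ih =>
    have h1 : g ^ n * c = c * g ^ n := (Commute.pow_left hgc n).eq
    calc g ^ (n + 1) * w * (g ^ (n + 1))⁻¹ = g ^ n * (g * w * g⁻¹) * (g ^ n)⁻¹ := by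
          rw [pow_succ]; group
      _ = g ^ n * c * w * (g ^ n)⁻¹ := by rw [hc]; group
      _ = c * (g ^ n * w * (g ^ n)⁻¹) := by rw [h1]; group
      _ = c ^ (n + 1) * w := by rw [ih, ← mul_assoc, ← pow_succ']

variable (h2 : commutator P ≤ Subgroup.center P)

include h2 in
theorem comm_mem (g w : P) : ⁅g, w⁆ ∈ Subgroup.center P :=
  h2 (Subgroup.commutator_mem_commutator (Subgroup.mem_top g) (Subgroup.mem_top w))

include h2 in
theorem comm_pow_left (g w : P) (n : ℕ) : ⁅g ^ n, w⁆ = ⁅g, w⁆ ^ n := by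
  have hc : g * w * g⁻¹ = ⁅g, w⁆ * w := by rw [commutatorElement_def]; group
  rw [commutatorElement_def (g ^ n) w,
    pow_conj hc (Subgroup.mem_center_iff.1 (comm_mem h2 g w) g) n, mul_inv_cancel_right]

include h2 in
theorem comm_pow_right (g w : P) (n : ℕ) : ⁅g, w ^ n⁆ = ⁅g, w⁆ ^ n := by
  rw [← commutatorElement_inv, comm_pow_left h2, ← inv_pow, commutatorElement_inv]

include h2 in
theorem comm_mul_left (g g' w : P) : ⁅g * g', w⁆ = ⁅g, w⁆ * ⁅g', w⁆ := by
  have hc := Subgroup.mem_center_iff.1 (comm_mem h2 g' w)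
  calc ⁅g * g', w⁆ = g * ⁅g', w⁆ * (w * g⁻¹ * w⁻¹) := by simp only [commutatorElement_def]; group
    _ = ⁅g', w⁆ * g * (w * g⁻¹ * w⁻¹) := by rw [hc g]
    _ = ⁅g', w⁆ * ⁅g, w⁆ := by simp only [commutatorElement_def]; group
    _ = ⁅g, w⁆ * ⁅g', w⁆ := (hc ⁅g, w⁆).symm

include h2 in
theorem comm_mul_right (g w w' : P) : ⁅g, w * w'⁆ = ⁅g, w⁆ * ⁅g, w'⁆ := by
  rw [← commutatorElement_inv, comm_mul_left h2, mul_inv_rev, commutatorElement_inv,
    commutatorElement_inv]
  exact Subgroup.mem_center_iff.1 (comm_mem h2 g w) ⁅g, w'⁆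

include h2 in
/-- In class two with commutators of prime order inside a cyclic centre the central index is a
square. -/
theorem exists_card_sq [Finite P] {t : ℕ} (ht : t.Prime) (hexp : ∀ g w : P, ⁅g, w⁆ ^ t = 1)
    [IsCyclic (Subgroup.center P)] :
    ∃ m, Nat.card (P ⧸ Subgroup.center P) = m * m := by
  classical
  by_cases hab : ∀ g w : P, ⁅g, w⁆ = 1
  · refine ⟨1, ?_⟩
    have : Subgroup.center P = ⊤ := (Subgroup.eq_top_iff' _).2 fun g =>
      Subgroup.mem_center_iff.2 fun w => commutatorElement_eq_one_iff_mul_comm.1 (hab w g)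
    rw [← Subgroup.index_eq_card, this, Subgroup.index_top]
  push Not at hab
  obtain ⟨g₀, w₀, hc₀⟩ := hab
  set Z := Subgroup.center P with hZ
  open scoped IsMulCommutative in
  haveI : NeZero (Monoid.exponent Z : ℂ) :=
    ⟨Nat.cast_ne_zero.mpr Monoid.exponent_ne_zero_of_finite⟩
  open scoped IsMulCommutative in
  obtain ⟨f, hf⟩ := CommGroup.exists_apply_ne_one_of_hasEnoughRootsOfUnity Z ℂ
    (show (⟨⁅g₀, w₀⁆, comm_mem h2 g₀ w₀⟩ : Z) ≠ 1 from fun e => hc₀ (congrArg Subtype.val e))
  have hfinj : ∀ g w : P, f ⟨⁅g, w⁆, comm_mem h2 g w⟩ = 1 → ⁅g, w⁆ = 1 := by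
    intro g w hgw
    by_contra hne
    set c : Z := ⟨⁅g, w⁆, comm_mem h2 g w⟩
    set c₀ : Z := ⟨⁅g₀, w₀⁆, comm_mem h2 g₀ w₀⟩
    have hpow : ∀ z : Z, ((z : P)) ^ t = 1 → z ≠ 1 → orderOf z = t := fun z hz hz1 => by
      haveI := Fact.mk ht
      exact orderOf_eq_prime (Subtype.ext (by simpa using hz)) hz1
    have h1 : orderOf c = t := hpow c (hexp g w) fun e => hne (congrArg Subtype.val e)
    have h0 : c₀ ∈ Subgroup.zpowers c := by
      haveI : IsCyclic (⊤ : Subgroup Z) := Subgroup.topEquiv.isCyclic.2 inferInstance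
      exact TransLinear.mem_zpowers_of_isCyclic (H := (⊤ : Subgroup Z)) (Subgroup.mem_top c)
        (Subgroup.mem_top c₀) ht.pos h1 (Subtype.ext (by simpa using hexp g₀ w₀))
    obtain ⟨i, hi⟩ := h0
    exact hf (by rw [← hi, map_zpow, hgw, one_zpow])
  let β : P → P →* ℂˣ := fun g =>
    { toFun := fun w => f ⟨⁅g, w⁆, comm_mem h2 g w⟩
      map_one' := by
        rw [← map_one f]; exact congrArg f (Subtype.ext (commutatorElement_one_right g))
      map_mul' := fun w w' => by
        rw [← map_mul]; exact congrArg f (Subtype.ext (comm_mul_right h2 g w w')) }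
  have hβmul : ∀ g g' w, β (g * g') w = β g w * β g' w := fun g g' w => by
    show f _ = f _ * f _
    rw [← map_mul]; exact congrArg f (Subtype.ext (comm_mul_left h2 g g' w))
  -- a maximal commutative subgroup
  obtain ⟨B, hZB, hBc, hBmax⟩ := Finite.exists_le_maximal
    (p := fun B : Subgroup P => ∀ a ∈ B, ∀ b ∈ B, a * b = b * a)
    (a := Z) fun a _ b hb => Subgroup.mem_center_iff.1 hb a
  haveI hBn : B.Normal := ⟨fun b hb g => by
    have : g * b * g⁻¹ = ⁅g, b⁆ * b := by rw [commutatorElement_def]; group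
    rw [this]; exact mul_mem (hZB (comm_mem h2 g b)) hb⟩
  have hself : ∀ g : P, (∀ b ∈ B, ⁅g, b⁆ = 1) → g ∈ B := by
    intro g hg
    have hle : Subgroup.closure (insert g (B : Set P)) ≤ B := by
      refine hBmax (y := Subgroup.closure (insert g (B : Set P))) ?_
        (fun b hb => Subgroup.subset_closure (Set.mem_insert_of_mem _ hb))
      intro a ha b hb
      have hcl : Subgroup.closure (insert g (B : Set P)) ≤
          Subgroup.centralizer (insert g (B : Set P)) := by
        rw [Subgroup.closure_le]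
        intro y hy
        rw [SetLike.mem_coe, Subgroup.mem_centralizer_iff]
        intro y' hy'
        rcases Set.mem_insert_iff.1 hy with e | hy <;>
          rcases Set.mem_insert_iff.1 hy' with e' | hy'
        · rw [e, e']
        · rw [e]; exact (commutatorElement_eq_one_iff_mul_comm.1 (hg _ hy')).symm
        · rw [e']; exact commutatorElement_eq_one_iff_mul_comm.1 (hg _ hy)
        · exact hBc _ hy' _ hy
      have h1 := hcl ha
      rw [← Subgroup.centralizer_closure] at h1
      exact (Subgroup.mem_centralizer_iff.1 h1 b hb).symm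
    exact hle (Subgroup.subset_closure (Set.mem_insert _ _))
  haveI : (Z.subgroupOf B).Normal := Subgroup.Normal.subgroupOf inferInstance B
  -- `P / B` into the characters of `B / Z`
  open scoped IsMulCommutative in
  haveI : IsMulCommutative B := ⟨⟨fun a b => Subtype.ext (hBc a a.2 b b.2)⟩⟩
  open scoped IsMulCommutative in
  have hcard1 : Nat.card (P ⧸ B) ≤ Nat.card (B ⧸ Z.subgroupOf B) := by
    haveI : NeZero (Monoid.exponent (B ⧸ Z.subgroupOf B) : ℂ) :=
      ⟨Nat.cast_ne_zero.mpr Monoid.exponent_ne_zero_of_finite⟩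
    obtain ⟨e⟩ := CommGroup.monoidHom_mulEquiv_of_hasEnoughRootsOfUnity (B ⧸ Z.subgroupOf B) ℂ
    haveI : Finite ((B ⧸ Z.subgroupOf B) →* ℂˣ) := Finite.of_equiv _ e.symm.toEquiv
    let j : P → ((B ⧸ Z.subgroupOf B) →* ℂˣ) := fun g =>
      QuotientGroup.lift _ ((β g).comp B.subtype) fun b hb => by
        rw [Subgroup.mem_subgroupOf] at hb
        show f _ = 1
        rw [← map_one f]
        exact congrArg f (Subtype.ext (commutatorElement_eq_one_iff_mul_comm.2
          (Subgroup.mem_center_iff.1 hb g)))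
    refine (Nat.card_le_card_of_injective (fun q : P ⧸ B => j q.out) fun q q' hqq => ?_).trans
      (Nat.card_congr e.toEquiv).le
    rw [← Quotient.out_eq q, ← Quotient.out_eq q']
    refine QuotientGroup.eq.2 (hself _ fun b hb => hfinj _ b ?_)
    have h1 : β q.out b = β q'.out b := DFunLike.congr_fun hqq ((⟨b, hb⟩ : B) : B ⧸ Z.subgroupOf B)
    have h2' := hβmul (q.out⁻¹ * q'.out) 1 b
    have h3 : β q.out b * β (q.out⁻¹ * q'.out) b = β q'.out b := by
      rw [← hβmul, mul_inv_cancel_left]
    rw [← h1] at h3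
    exact mul_eq_left.1 h3
  have hcomm : ∀ a b : P ⧸ B, a * b = b * a := fun a b => by
    induction a using QuotientGroup.induction_on with | _ a
    induction b using QuotientGroup.induction_on with | _ b
    rw [← commutatorElement_eq_one_iff_mul_comm]
    exact (QuotientGroup.eq_one_iff _).2 (hZB (comm_mem h2 a b))
  haveI : IsMulCommutative (P ⧸ B) := ⟨⟨hcomm⟩⟩
  open scoped IsMulCommutative in
  have hcard2 : Nat.card (B ⧸ Z.subgroupOf B) ≤ Nat.card (P ⧸ B) := by
    haveI : NeZero (Monoid.exponent (P ⧸ B) : ℂ) :=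
      ⟨Nat.cast_ne_zero.mpr Monoid.exponent_ne_zero_of_finite⟩
    obtain ⟨e⟩ := CommGroup.monoidHom_mulEquiv_of_hasEnoughRootsOfUnity (P ⧸ B) ℂ
    haveI : Finite ((P ⧸ B) →* ℂˣ) := Finite.of_equiv _ e.symm.toEquiv
    let j : B → ((P ⧸ B) →* ℂˣ) := fun b =>
      QuotientGroup.lift _ (β b) fun w hw => by
        show f _ = 1
        rw [← map_one f]
        exact congrArg f (Subtype.ext (commutatorElement_eq_one_iff_mul_comm.2 (hBc b b.2 w hw)))
    refine (Nat.card_le_card_of_injective (fun q : B ⧸ Z.subgroupOf B => j q.out) fun q q' hqq => ?_).trans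
      (Nat.card_congr e.toEquiv).le
    rw [← Quotient.out_eq q, ← Quotient.out_eq q']
    refine QuotientGroup.eq.2 ?_
    rw [Subgroup.mem_subgroupOf]
    refine Subgroup.mem_center_iff.2 fun w => (commutatorElement_eq_one_iff_mul_comm.1
      (hfinj _ w ?_)).symm
    have h1 : β q.out w = β q'.out w := DFunLike.congr_fun hqq (w : P ⧸ B)
    have h3 : β (q.out : P) w * β (((q.out : P))⁻¹ * q'.out) w = β q'.out w := by
      rw [← hβmul, mul_inv_cancel_left]
    rw [← h1] at h3
    exact mul_eq_left.1 h3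
  refine ⟨Nat.card (P ⧸ B), ?_⟩
  rw [← Subgroup.index_eq_card, ← Subgroup.relIndex_mul_index hZB,
    show Z.relIndex B = Nat.card (B ⧸ Z.subgroupOf B) from Subgroup.index_eq_card _,
    Subgroup.index_eq_card, le_antisymm hcard2 hcard1]

end ClassTwo

/-! ## The core -/

section Core

variable {D : Type u} [Group D] [Finite D]
variable {E : Type v} [AddCommGroup E] [Finite E] [Nontrivial E] [DistribMulAction D E]
  [FaithfulSMul D E]
variable {x : D} {s N ℓ : ℕ}

theorem card_end_le_aux {E : Type v} [AddCommGroup E] [Finite E] (s N : ℕ) [Fact s.Prime] [Module (ZMod s) E] (hc : Nat.card E = s ^ N) : Nat.card (AddMonoid.End E) ≤ s ^ (N * N) := by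
  haveI : Finite (AddMonoid.End E) := Finite.of_injective (fun f => (f : E → E)) DFunLike.coe_injective
  let b : Module.Basis (Fin (Module.finrank (ZMod s) E)) (ZMod s) E := Module.finBasis (ZMod s) E
  have hs : s.Prime := Fact.out
  have hr : Module.finrank (ZMod s) E = N := by
    have := Module.natCard_eq_pow_finrank (K := ZMod s) (V := E)
    rw [hc, Nat.card_zmod] at this
    exact (Nat.pow_right_injective hs.two_le this).symm
  refine (Nat.card_le_card_of_injective (fun (f : AddMonoid.End E) i => f (b i)) ?_).trans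
    (le_of_eq ?_)
  · intro f g hfg
    have h1 : (f : E →+ E).toZModLinearMap s = (g : E →+ E).toZModLinearMap s :=
      b.ext fun i => congrFun hfg i
    exact AddMonoidHom.ext fun e => DFunLike.congr_fun h1 e
  · rw [Nat.card_fun, Nat.card_fin, hc, hr, ← pow_mul]

theorem card_end_le (h : PrimElt E x s N ℓ) : Nat.card (AddMonoid.End E) ≤ s ^ (N * N) :=
  haveI := Fact.mk h.hs
  letI : Module (ZMod s) E := AddCommGroup.zmodModule h.exp
  card_end_le_aux s N h.card

theorem not_dvd_card_pCore (h : PrimElt E x s N ℓ) {t : ℕ} [Fact t.Prime] :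
    ¬ s ∣ Nat.card (Cfsg.pCore t D) := by
  intro hd
  set O := Cfsg.pCore t D with hO
  have hOp : IsPGroup t O := FittingCores.pCore_isPGroup t
  haveI hOn : O.Normal := FittingCores.pCore_normal t
  obtain ⟨k, hk⟩ := IsPGroup.iff_card.1 hOp
  have hst : s = t := (Nat.prime_dvd_prime_iff_eq h.hs Fact.out).1 (h.hs.dvd_of_dvd_pow (hk ▸ hd))
  let W : AddSubgroup E :=
    { carrier := {e | ∀ b ∈ O, b • e = e}
      zero_mem' := fun b _ => smul_zero b
      add_mem' := fun {p q} hp hq b hb => by rw [smul_add, hp b hb, hq b hb]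
      neg_mem' := fun {p} hp b hb => by rw [smul_neg, hp b hb] }
  have hdE : t ∣ Nat.card E := by rw [h.card, hst]; exact dvd_pow_self t h.pos.ne'
  obtain ⟨e, he, hne⟩ := hOp.exists_fixed_point_of_prime_dvd_card_of_fixed_point E hdE
    (a := (0 : E)) (fun b => smul_zero _)
  rcases h.irred W (fun w hw b hb => by
      calc b • x • w = x • ((x⁻¹ * b * x) • w) := by simp only [← mul_smul]; congr 1; group
        _ = x • w := by rw [hw _ (by simpa using hOn.conj_mem b hb x⁻¹)]) with hb | htop
  · exact hne (((AddSubgroup.eq_bot_iff_forall _).1 hb e fun b hb' => he ⟨b, hb'⟩).symm)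
  · have hbot : O = ⊥ := (Subgroup.eq_bot_iff_forall _).2 fun b hb =>
      eq_of_smul_eq_smul (α := E) fun e => by
        rw [one_smul]; exact htop.ge (AddSubgroup.mem_top e) b hb
    rw [hbot, Subgroup.card_bot] at hd
    exact h.hs.one_lt.ne' (Nat.dvd_one.1 hd)

/-- A core not centralised by `x`. -/
theorem exceptional (h : PrimElt E x s N ℓ) {t : ℕ} [ht : Fact t.Prime] (htl : t ≠ ℓ)
    (O : Subgroup D) [O.Normal] (hO : O = Cfsg.pCore t D) {o₀ : D} (ho₀ : o₀ ∈ O)
    (hne : o₀ * x ≠ x * o₀) :
    t = 2 ∧ ℓ = N + 1 ∧ commutator O ≤ Subgroup.center O ∧ (∀ g : O, g ^ t ∈ Subgroup.center O) ∧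
      Nat.card (O ⧸ Subgroup.center O) = N * N ∧
      IsCyclic (Subgroup.center O) ∧
      (∀ g : D, (∀ o ∈ O, g * o = o * g) → g * x = x * g) ∧
      (∀ g : O, g⁻¹ * (MulAut.conjNormal x g) ∈ Subgroup.center O → g ∈ Subgroup.center O) := by
  classical
  haveI := Fact.mk h.hl
  have hOp : IsPGroup t O := hO ▸ FittingCores.pCore_isPGroup t
  obtain ⟨kO, hkO⟩ := IsPGroup.iff_card.1 hOp
  have hOs : ¬ s ∣ Nat.card O := hO ▸ not_dvd_card_pCore h
  have hOl : ¬ ℓ ∣ Nat.card O := fun hd =>
    htl ((Nat.prime_dvd_prime_iff_eq h.hl ht.out).1 (h.hl.dvd_of_dvd_pow (hkO ▸ hd))).symm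
  haveI : Group.IsNilpotent O := hOp.isNilpotent
  set X := Subgroup.zpowers x with hX
  have hXO : X ≤ Subgroup.normalizer (O : Set D) := Subgroup.le_normalizer_of_normal
  have hcop : (Nat.card X).Coprime (Nat.card O) := by
    rw [hX, Nat.card_zpowers, h.order]
    exact (Nat.Prime.coprime_iff_not_dvd h.hl).2 hOl
  have hsolvX : Group.IsSolvable X := Group.isSolvable_of_comm fun a b => mul_comm' a b
  have hCX : ∀ g ∈ Subgroup.centralizer (X : Set D), g * x = x * g := fun g hg =>
    (Subgroup.mem_centralizer_iff.1 hg x (Subgroup.mem_zpowers x)).symm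
  set θ : MulAut O := MulAut.conjNormal x with hθ
  have hθv : ∀ g : O, ((θ g : O) : D) = x * g * x⁻¹ := fun g => MulAut.conjNormal_apply x g
  -- abelian invariant normal subgroups are centralised by `x`
  have hfixA : ∀ A : Subgroup O, IsMulCommutative A → (∀ a ∈ A, θ a ∈ A) →
      ∀ a ∈ A, (a : D) * x = x * a := by
    intro A hA hAθ a ha
    haveI := hA
    refine h.centralizes (A.map O.subtype) ?_ ?_ ?_ (Subgroup.mem_map_of_mem _ ha)
    · rintro _ ⟨b, hb, rfl⟩
      exact ⟨θ b, hAθ b hb, hθv b⟩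
    · exact fun hd => hOs (hd.trans (Subgroup.card_dvd_of_le (Subgroup.map_subtype_le A)))
    · exact fun hd => hOl (hd.trans (Subgroup.card_dvd_of_le (Subgroup.map_subtype_le A)))
  have hcentral : ∀ A : Subgroup O, A.Normal → IsMulCommutative A → (∀ a ∈ A, θ a ∈ A) →
      A ≤ Subgroup.center O := by
    intro A hAn hA hAθ
    set A' := A.map O.subtype with hA'
    have hA'X : ∀ a ∈ A', a * x = x * a := by
      rintro _ ⟨a, ha, rfl⟩; exact hfixA A hA hAθ a ha
    have hXA' : ⁅X, A'⁆ = ⊥ := by
      rw [Subgroup.commutator_eq_bot_iff_le_centralizer, hX, Subgroup.zpowers_le]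
      exact Subgroup.mem_centralizer_iff.2 fun a ha => hA'X a ha
    have hA'O : ⁅A', O⁆ ≤ A' := by
      rw [Subgroup.commutator_le]
      rintro _ ⟨a, ha, rfl⟩ o ho
      refine ⟨⁅a, (⟨o, ho⟩ : O)⁆, ?_, rfl⟩
      have := mul_mem ha (hAn.conj_mem a⁻¹ (inv_mem ha) ⟨o, ho⟩)
      simpa [commutatorElement_def, mul_assoc] using this
    have h3 : ⁅⁅O, X⁆, A'⁆ = ⊥ := by
      refine Subgroup.commutator_commutator_eq_bot_of_rotate ?_ ?_
      · rw [hXA', Subgroup.commutator_bot_left]
      · refine le_bot_iff.1 ((Subgroup.commutator_mono hA'O le_rfl).trans ?_)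
        rw [Subgroup.commutator_comm, hXA']
    intro a ha
    rw [Subgroup.mem_center_iff]
    intro g
    obtain ⟨d, hd, c, hc, hdc⟩ := CoprimeAct.exists_commutator_mul hXO hcop (Or.inl hsolvX) g.2
    have h4 : d * (a : D) = (a : D) * d :=
      (Subgroup.mem_centralizer_iff.1 (Subgroup.commutator_eq_bot_iff_le_centralizer.1 h3 hd)
        (a : D) ⟨a, ha, rfl⟩).symm
    have h5 : c * (a : D) = (a : D) * c :=
      h.commute_of_commute (hCX c hc.2) (hA'X _ ⟨a, ha, rfl⟩)
    refine Subtype.ext ?_
    show (g : D) * a = a * g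
    rw [hdc, mul_assoc, h5, ← mul_assoc, h4, mul_assoc]
  have hθchar : ∀ A : Subgroup O, A.Characteristic → ∀ a ∈ A, θ a ∈ A := fun A hA a ha => by
    have := hA.fixed θ
    rw [← this] at ha
    exact ha
  have hZx : ∀ a ∈ Subgroup.center O, (a : D) * x = x * a :=
    hfixA _ inferInstance (hθchar _ inferInstance)
  -- class two
  have h2 : commutator O ≤ Subgroup.center O := by
    set Z2 := Subgroup.upperCentralSeries O 2 with hZ2
    have hK : ⁅commutator O, Z2⁆ = ⊥ := by
      have h1 : ⁅Z2, (⊤ : Subgroup O)⁆ ≤ Subgroup.center O := by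
        rw [Subgroup.commutator_le]
        intro a ha b _
        rw [hZ2, Subgroup.mem_upperCentralSeries_succ_iff] at ha
        simpa [Subgroup.upperCentralSeries_one] using ha b
      have hz : ⁅Subgroup.center O, (⊤ : Subgroup O)⁆ = ⊥ := by
        rw [Subgroup.commutator_eq_bot_iff_le_centralizer, Subgroup.coe_top, Subgroup.centralizer_univ]
      refine Subgroup.commutator_commutator_eq_bot_of_rotate ?_ ?_
      · refine le_bot_iff.1 ((Subgroup.commutator_mono ?_ le_rfl).trans hz.le)
        rw [Subgroup.commutator_comm]; exact h1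
      · exact le_bot_iff.1 ((Subgroup.commutator_mono h1 le_rfl).trans hz.le)
    have hA : IsMulCommutative (commutator O ⊓ Z2 : Subgroup O) := ⟨⟨fun a b => Subtype.ext
      (Subgroup.mem_centralizer_iff.1 (Subgroup.commutator_eq_bot_iff_le_centralizer.1 hK a.2.1)
        b b.2.2).symm⟩⟩
    have hAle : commutator O ⊓ Z2 ≤ Subgroup.center O :=
      hcentral _ inferInstance hA fun a ha =>
        ⟨hθchar _ inferInstance a ha.1, hθchar _ inferInstance a ha.2⟩
    by_contra hnot
    set π := QuotientGroup.mk' (Subgroup.center O)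
    haveI : ((commutator O).map π).Normal :=
      Subgroup.Normal.map inferInstance π (QuotientGroup.mk'_surjective _)
    have hne' : (commutator O).map π ≠ ⊥ := fun e => hnot (by
      rw [Subgroup.map_eq_bot_iff, QuotientGroup.ker_mk'] at e; exact e)
    obtain ⟨⟨q, hq⟩, hqne⟩ := Subgroup.ne_bot_iff_exists_ne_one.1
      (SolvStruct.inf_center_ne_bot hne')
    have hq1 : q ≠ 1 := fun e => hqne (Subtype.ext e)
    obtain ⟨⟨g, hg, rfl⟩, hqc⟩ := hq
    refine hq1 ((QuotientGroup.eq_one_iff g).2 (hAle ⟨hg, ?_⟩))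
    show g ∈ Subgroup.upperCentralSeries O 2
    rw [Subgroup.mem_upperCentralSeries_succ_iff]
    intro w
    rw [Subgroup.upperCentralSeries_one, ← QuotientGroup.eq_one_iff]
    exact commutatorElement_eq_one_iff_mul_comm.2 (Subgroup.mem_center_iff.1 hqc (π w)).symm
  -- the commutators have order dividing `t`
  have hexp : ∀ g w : O, ⁅g, w⁆ ^ t = 1 := by
    have hex : ∃ k, ∀ g w : O, ⁅g, w⁆ ^ t ^ k = 1 :=
      ⟨kO, fun g w => hkO ▸ pow_card_eq_one'⟩
    set k := Nat.find hex with hk
    have hspec := Nat.find_spec hex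
    rcases Nat.lt_or_ge k 2 with hlt | hge
    · intro g w
      have hd : t ^ k ∣ t := (Nat.pow_dvd_pow t (Nat.lt_succ_iff.1 hlt)).trans (pow_one t).dvd
      obtain ⟨c, hc⟩ := hd
      rw [hc, pow_mul, hspec, one_pow]
    exfalso
    set hh := t ^ (k - 1) with hhh
    let B : Subgroup O := Subgroup.closure (Set.range fun g : O => g ^ hh)
    haveI hBchar : B.Characteristic := by
      refine Subgroup.characteristic_iff_map_le.2 fun φ => ?_
      rw [MonoidHom.map_closure, Subgroup.closure_le]
      rintro _ ⟨_, ⟨g, rfl⟩, rfl⟩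
      exact Subgroup.subset_closure ⟨φ g, (map_pow φ g hh).symm⟩
    have hBc : IsMulCommutative B := by
      refine Subgroup.isMulCommutative_closure ?_
      rintro _ ⟨g, rfl⟩ _ ⟨w, rfl⟩
      rw [← commutatorElement_eq_one_iff_mul_comm, comm_pow_left h2, comm_pow_right h2, ← pow_mul,
        hhh, ← pow_add]
      obtain ⟨c, hc⟩ := Nat.exists_eq_add_of_le (show k ≤ k - 1 + (k - 1) by omega)
      rw [hc, pow_add, pow_mul, hspec, one_pow]
    have hBz := hcentral B inferInstance hBc (hθchar _ hBchar)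
    refine Nat.find_min hex (show k - 1 < k by omega) fun g w => ?_
    rw [← comm_pow_left h2]
    exact commutatorElement_eq_one_iff_mul_comm.2
      (Subgroup.mem_center_iff.1 (hBz (Subgroup.subset_closure ⟨g, rfl⟩)) w).symm
  have hpow : ∀ g : O, g ^ t ∈ Subgroup.center O := fun g => Subgroup.mem_center_iff.2 fun w =>
    (commutatorElement_eq_one_iff_mul_comm.1 ((comm_pow_left h2 g w t).trans (hexp g w))).symm
  -- no non-central coset is fixed
  have hfpf : ∀ g : O, g⁻¹ * θ g ∈ Subgroup.center O → g ∈ Subgroup.center O := by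
    set Z' := (Subgroup.center O).map O.subtype with hZ'
    haveI hZ'n : Z'.Normal := by rw [hZ']; infer_instance
    intro g hg
    have hg' : ∀ a ∈ X, a * (g : D) * a⁻¹ * (g : D)⁻¹ ∈ Z' := by
      have h1 : ∀ n : ℕ, (QuotientGroup.mk (x ^ n * (g : D) * (x ^ n)⁻¹) : D ⧸ Z') = (g : D) := by
        intro n
        induction n with
        | zero => simp
        | succ n ih =>
          have hb : (QuotientGroup.mk (x * (g : D) * x⁻¹) : D ⧸ Z') = (g : D) := by
            refine (QuotientGroup.eq.2 ?_).symm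
            exact ⟨g⁻¹ * θ g, hg, by simp [hθv]⟩
          rw [show x ^ (n + 1) * (g : D) * (x ^ (n + 1))⁻¹ = x * (x ^ n * g * (x ^ n)⁻¹) * x⁻¹ by
            rw [pow_succ']; group]
          rw [QuotientGroup.mk_mul, QuotientGroup.mk_mul, ih, ← QuotientGroup.mk_mul,
            ← QuotientGroup.mk_mul, hb]
      intro a ha
      rw [hX, ← mem_powers_iff_mem_zpowers] at ha
      obtain ⟨n, rfl⟩ := ha
      rw [← QuotientGroup.eq_one_iff, QuotientGroup.mk_mul, h1, ← QuotientGroup.mk_mul,
        mul_inv_cancel, QuotientGroup.mk_one]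
    obtain ⟨c, hc, hgc⟩ := CoprimeAct.exists_mem_centralizer hXO hcop (Or.inl hsolvX)
      (Subgroup.map_subtype_le _) Subgroup.le_normalizer_of_normal
      Subgroup.le_normalizer_of_normal g.2 hg'
    let A : Subgroup O := (Subgroup.centralizer (X : Set D)).subgroupOf O
    have hAx : ∀ a ∈ A, (a : D) * x = x * a := fun a ha => hCX _ ha
    have hZA : Subgroup.center O ≤ A := fun a ha => by
      show (a : D) ∈ Subgroup.centralizer (X : Set D)
      have : X ≤ Subgroup.centralizer {(a : D)} := by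
        rw [hX, Subgroup.zpowers_le]
        exact Subgroup.mem_centralizer_singleton_iff.2 (hZx a ha).symm
      exact Subgroup.mem_centralizer_iff.2 fun b hb =>
        Subgroup.mem_centralizer_singleton_iff.1 (this hb)
    have hA : A ≤ Subgroup.center O := by
      refine hcentral A ⟨fun a ha w => ?_⟩ ⟨⟨fun a b => Subtype.ext (Subtype.ext
        (h.commute_of_commute (hAx _ a.2) (hAx _ b.2)))⟩⟩ fun a ha => ?_
      · have e : w * a * w⁻¹ = ⁅w, a⁆ * a := by rw [commutatorElement_def]; group
        rw [e]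
        exact mul_mem (hZA (comm_mem h2 w a)) ha
      · have e : θ a = a := Subtype.ext (by rw [hθv, ← hAx a ha, mul_inv_cancel_right])
        rwa [e]
    obtain ⟨z, hz, hzc⟩ := hgc
    have e : g = (⟨c, hc.1⟩ : O) * z⁻¹ := Subtype.ext (by
      show (g : D) = c * ((z⁻¹ : O) : D)
      rw [InvMemClass.coe_inv, show (z : D) = (g : D)⁻¹ * c from hzc]; group)
    rw [e]
    exact mul_mem (hA hc.2) (inv_mem hz)
  -- the centre is cyclic
  haveI hZcyc : IsCyclic (Subgroup.center O) := by
    haveI := h.cyclic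
    exact isCyclic_of_injective
      ((O.subtype.comp (Subgroup.center O).subtype).codRestrict (Subgroup.centralizer {x})
        fun a => Subgroup.mem_centralizer_singleton_iff.2 (hZx a a.2))
      fun a b hab => by
        have h1 := congrArg Subtype.val hab
        exact Subtype.ext (Subtype.ext h1)
  -- coset representatives are independent over the commutant
  set Z := Subgroup.center O with hZdef
  let em : D →* AddMonoid.End E := DistribMulAction.toAddMonoidEnd D E
  let S : Set (AddMonoid.End E) := em '' (insert x (O : Set D))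
  let R := Subring.centralizer S
  haveI : Finite (AddMonoid.End E) :=
    Finite.of_injective (fun f => (f : E → E)) DFunLike.coe_injective
  have hRx : ∀ (r : R) (g : D), g ∈ insert x (O : Set D) → em g * (r : AddMonoid.End E) = r * em g :=
    fun r g hg => Subring.mem_centralizer_iff.1 r.2 _ ⟨g, hg, rfl⟩
  have hRinj : ∀ r : R, r ≠ 0 → ∀ e : E, (r : AddMonoid.End E) e = 0 → e = 0 := by
    intro r hr e he
    let k : E →+ E := (r : AddMonoid.End E)
    rcases h.irred k.ker (fun w hw => by
        rw [AddMonoidHom.mem_ker] at hw ⊢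
        have h1 := DFunLike.congr_fun (hRx r x (Set.mem_insert x _)) w
        change x • (k w) = k (x • w) at h1
        rw [← h1, hw, smul_zero]) with h0 | h0
    · exact (AddSubgroup.eq_bot_iff_forall _).1 h0 e (AddMonoidHom.mem_ker.2 he)
    · exact absurd (Subtype.ext (AddMonoidHom.ext fun w =>
        AddMonoidHom.mem_ker.1 (h0.ge (AddSubgroup.mem_top w)))) hr
  have hemR : ∀ z ∈ Z, em (z : O) ∈ R := fun z hz => Subring.mem_centralizer_iff.2 fun _ hg => by
    obtain ⟨g, hg, rfl⟩ := hg
    rw [← map_mul, ← map_mul]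
    refine congrArg em ?_
    rcases Set.mem_insert_iff.1 hg with rfl | hgO
    · exact (hZx z hz).symm
    · exact congrArg Subtype.val (Subgroup.mem_center_iff.1 hz ⟨g, hgO⟩)
  let a : O ⧸ Z → AddMonoid.End E := fun w => em (w.out : O)
  have hindep : ∀ (T : Finset (O ⧸ Z)) (r : O ⧸ Z → R),
      ∑ w ∈ T, (r w : AddMonoid.End E) * a w = 0 → ∀ w ∈ T, r w = 0 := by
    intro T
    induction hT : T.card using Nat.strong_induction_on generalizing T with
    | _ n ih => ?_
    intro r hr w₁ hw₁
    by_contra hr1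
    have hall : ∀ w₀ ∈ T, w₀ ≠ w₁ → False := by
      intro w₀ hw₀ hne
      obtain ⟨g, hg⟩ : ∃ g : O, ⁅g, w₁.out⁆ ≠ ⁅g, w₀.out⁆ := by
        by_contra hall
        push Not at hall
        apply hne
        rw [← Quotient.out_eq w₀, ← Quotient.out_eq w₁]
        refine (QuotientGroup.eq.2 ?_)
        refine Subgroup.mem_center_iff.2 fun g => commutatorElement_eq_one_iff_mul_comm.1 ?_
        have h1 : ⁅g, w₀.out⁆ * ⁅g, w₀.out⁻¹ * w₁.out⁆ = ⁅g, w₁.out⁆ := by
          rw [← comm_mul_right h2, mul_inv_cancel_left]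
        rw [hall g] at h1
        exact mul_eq_left.1 h1
      let z : O ⧸ Z → R := fun w => ⟨em (⁅g, w.out⁆ : O), hemR _ (comm_mem h2 _ _)⟩
      have hconj : ∀ w : O ⧸ Z, em (g : D) * ((r w : AddMonoid.End E) * a w) * em ((g : D)⁻¹) =
          ((r w * z w : R) : AddMonoid.End E) * a w := by
        intro w
        rw [← mul_assoc, hRx (r w) g (Set.mem_insert_of_mem _ g.2), Subring.coe_mul, mul_assoc,
          mul_assoc, mul_assoc]
        congr 1
        rw [← map_mul, ← map_mul, ← map_mul]
        refine congrArg em ?_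
        simp [commutatorElement_def, mul_assoc]
      have h1 : ∑ w ∈ T, ((r w * z w : R) : AddMonoid.End E) * a w = 0 := by
        rw [← Finset.sum_congr rfl fun w _ => hconj w, ← Finset.sum_mul, ← Finset.mul_sum, hr,
          mul_zero, zero_mul]
      have h2' : ∑ w ∈ T, ((z w₀ * r w : R) : AddMonoid.End E) * a w = 0 := by
        rw [Finset.sum_congr rfl fun w _ => show ((z w₀ * r w : R) : AddMonoid.End E) * a w =
          (z w₀ : AddMonoid.End E) * ((r w : AddMonoid.End E) * a w) by
            rw [Subring.coe_mul, mul_assoc], ← Finset.mul_sum, hr, mul_zero]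
      have hzr : ∀ (w : O ⧸ Z) (r' : R), z w * r' = r' * z w := fun w r' => Subtype.ext
        (hRx r' _ (Set.mem_insert_of_mem _ (SetLike.coe_mem (⁅g, w.out⁆ : O))))
      have h3 : ∑ w ∈ T.erase w₀, ((r w * (z w - z w₀) : R) : AddMonoid.End E) * a w = 0 := by
        rw [Finset.sum_erase]
        · simp only [mul_sub, AddSubgroupClass.coe_sub, sub_mul, Finset.sum_sub_distrib]
          rw [h1, zero_sub, neg_eq_zero]
          refine Eq.trans (Finset.sum_congr rfl fun w _ => ?_) h2'
          rw [hzr]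
        · rw [sub_self, mul_zero, Subring.coe_zero, zero_mul]
      have h4 := ih _ (hT ▸ Finset.card_erase_lt_of_mem hw₀) _ rfl _ h3 w₁
        (Finset.mem_erase.2 ⟨hne.symm, hw₁⟩)
      have hz : z w₁ - z w₀ ≠ 0 := by
        rw [sub_ne_zero]
        intro e
        refine hg (Subtype.ext (eq_of_smul_eq_smul (α := E) fun e' => ?_))
        exact DFunLike.congr_fun (congrArg Subtype.val e) e'
      refine hr1 (Subtype.ext (AddMonoidHom.ext fun e' => hRinj _ hz _ ?_))
      show (z w₁ - z w₀ : R).1 ((r w₁ : AddMonoid.End E) e') = 0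
      have h5 : (z w₁ - z w₀) * r w₁ = r w₁ * (z w₁ - z w₀) := by rw [sub_mul, mul_sub, hzr, hzr]
      exact DFunLike.congr_fun (congrArg Subtype.val (h5.trans h4)) e'
    rw [Finset.sum_eq_single_of_mem w₁ hw₁ fun w hw hne => (hall w hw hne).elim] at hr
    refine hr1 (Subtype.ext ?_)
    have h1 := congrArg (· * em ((w₁.out : D)⁻¹)) hr
    simp only [a, zero_mul, mul_assoc, ← map_mul, mul_inv_cancel, map_one, mul_one] at h1
    exact h1
  haveI : Fintype (O ⧸ Z) := Fintype.ofFinite _
  let f : (O ⧸ Z → Fin s) → AddMonoid.End E := fun c =>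
    ∑ w, (((c w : ℕ) : R) : AddMonoid.End E) * a w
  have hfinj : Function.Injective f := by
    intro c c' hcc
    funext w
    have h0 : ∑ w, ((((c w : ℕ) : R) - ((c' w : ℕ) : R) : R) : AddMonoid.End E) * a w = 0 := by
      simp only [AddSubgroupClass.coe_sub, sub_mul, Finset.sum_sub_distrib]
      exact sub_eq_zero.2 hcc
    have h1 := hindep Finset.univ _ h0 w (Finset.mem_univ w)
    obtain ⟨e, he⟩ := exists_ne (0 : E)
    have hord : addOrderOf e = s := by
      haveI := Fact.mk h.hs
      exact addOrderOf_eq_prime (h.exp e) he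
    have h2'' : (c w : ℕ) • e = (c' w : ℕ) • e := by
      have := DFunLike.congr_fun (congrArg Subtype.val (sub_eq_zero.1 h1)) e
      simpa using this
    refine Fin.ext ?_
    have := nsmul_eq_nsmul_iff_modEq.1 h2''
    rw [hord] at this
    exact this.eq_of_lt_of_lt (c w).isLt (c' w).isLt
  have hle : Nat.card (O ⧸ Z) ≤ N * N := by
    refine (Nat.pow_le_pow_iff_right h.hs.two_le).1 ?_
    refine le_trans (le_of_eq ?_) ((Nat.card_le_card_of_injective f hfinj).trans (card_end_le h))
    rw [Nat.card_fun, Nat.card_fin]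
  -- arithmetic
  obtain ⟨m, hm⟩ := exists_card_sq h2 ht.out hexp
  have hdvd : ℓ ∣ m * m - 1 := by
    let ψ : X →* MulAut (O ⧸ Z) :=
      { toFun := fun g => QuotientGroup.congr Z Z (MulAut.conjNormal (g : D) : MulAut O)
          (Subgroup.characteristic_iff_map_eq.1 inferInstance _)
        map_one' := MulEquiv.ext fun q => by
          induction q using QuotientGroup.induction_on with | _ q
          simp
        map_mul' := fun g g' => MulEquiv.ext fun q => by
          induction q using QuotientGroup.induction_on with | _ q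
          simp
          rfl }
    letI : MulAction X (O ⧸ Z) :=
      { smul := fun g q => ψ g q
        one_smul := fun q => by show ψ 1 q = q; simp
        mul_smul := fun g g' q => by show ψ (g * g') q = ψ g (ψ g' q); simp }
    have hXp : IsPGroup ℓ X := IsPGroup.of_card (n := 1) (by rw [hX, Nat.card_zpowers, h.order, pow_one])
    have hmod := hXp.card_modEq_card_fixedPoints (O ⧸ Z)
    have hfp : Nat.card (MulAction.fixedPoints X (O ⧸ Z)) = 1 := by
      rw [Nat.card_eq_one_iff_unique]
      refine ⟨⟨fun p q => Subtype.ext ?_⟩, ⟨⟨1, fun g => map_one (ψ g)⟩⟩⟩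
      have hone : ∀ p : MulAction.fixedPoints X (O ⧸ Z), (p : O ⧸ Z) = 1 := by
        rintro ⟨p, hp⟩
        induction p using QuotientGroup.induction_on with | _ p
        have h1 : ((θ p : O) : O ⧸ Z) = (p : O ⧸ Z) := hp ⟨x, Subgroup.mem_zpowers x⟩
        exact (QuotientGroup.eq_one_iff p).2 (hfpf p (QuotientGroup.eq.1 h1.symm))
      rw [hone p, hone q]
    rw [hfp, hm] at hmod
    have : 0 < m * m := hm ▸ Nat.card_pos
    exact (Nat.modEq_iff_dvd' this).1 hmod.symm
  have hm2 : 2 ≤ m := by
    by_contra hlt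
    have hm1 : m * m ≤ 1 := by interval_cases m <;> norm_num
    have : Z = ⊤ := by
      refine Subgroup.index_eq_one.1 ?_
      rw [Subgroup.index_eq_card]
      exact le_antisymm (hm.le.trans hm1) Nat.card_pos
    exact hne (hZx ⟨o₀, ho₀⟩ (this ▸ Subgroup.mem_top _))
  have hmN : m ≤ N := Nat.mul_self_le_mul_self_iff.1 (hm ▸ hle)
  have hl1 : ℓ ≤ m + 1 := by
    rw [show m * m - 1 = (m + 1) * (m - 1) by
      obtain ⟨k, rfl⟩ : ∃ k, m = k + 1 := ⟨m - 1, by omega⟩
      simp only [Nat.add_sub_cancel]; exact Nat.sub_eq_of_eq_add (by ring)] at hdvd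
    rcases (Nat.Prime.dvd_mul h.hl).1 hdvd with hd | hd
    · exact Nat.le_of_dvd (by omega) hd
    · exact (Nat.le_of_dvd (by omega) hd).trans (by omega)
  have hlN := h.le
  have hmeq : m = N := by omega
  have hleq : ℓ = N + 1 := by omega
  have ht2 : t = 2 := by
    obtain ⟨i, hi⟩ : ∃ i, m * m = t ^ i := by
      obtain ⟨i, -, hi⟩ := (Nat.dvd_prime_pow ht.out).1 (hkO ▸ Subgroup.card_quotient_dvd_card Z)
      exact ⟨i, hm ▸ hi⟩
    have hodd : Odd ℓ := h.hl.odd_of_ne_two (by omega)
    have heven : Even m := by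
      rw [show ℓ = m + 1 by omega, Nat.odd_add_one] at hodd
      simpa using hodd
    have h2m : 2 ∣ t ^ i := hi ▸ (even_iff_two_dvd.1 heven).mul_right m
    exact ((Nat.prime_dvd_prime_iff_eq Nat.prime_two ht.out).1 (Nat.prime_two.dvd_of_dvd_pow h2m)).symm
  refine ⟨ht2, hleq, h2, hpow, by rw [hm, hmeq], hZcyc, fun g hg => ?_, hfpf⟩
  have hsurj : Function.Surjective f := by
    refine (Function.Injective.bijective_of_nat_card_le hfinj ?_).2
    refine (card_end_le h).trans (le_of_eq ?_)
    rw [Nat.card_fun, Nat.card_fin, hm, hmeq]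
  obtain ⟨c, hc⟩ := hsurj (em x)
  have hfg : em g * f c = f c * em g := by
    simp only [f, Finset.mul_sum, Finset.sum_mul]
    refine Finset.sum_congr rfl fun w _ => ?_
    have h1 : em g * a w = a w * em g := by
      rw [← map_mul, ← map_mul, hg _ (w.out : O).2]
    rw [Subring.coe_natCast, ← mul_assoc, ← Nat.cast_comm, mul_assoc, h1, mul_assoc]
  rw [hc] at hfg
  rw [← map_mul, ← map_mul] at hfg
  exact eq_of_smul_eq_smul (α := E) fun e => DFunLike.congr_fun hfg e

end Core

end Cfsg.Agent.ThreePrimes
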