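import Cfsg.Agent.Lib.ThreePrimes.Action

/-!
# A prime lost in a quotient by a minimal normal subgroup
-/

set_option autoImplicit false
set_option linter.style.haveILetI false
set_option linter.unusedSectionVars false

namespace Cfsg.Agent.ThreePrimes

open Cfsg.Agent
open scoped commutatorElement ComplexConjugate Pointwise

universe u w

variable {G : Type u} [Group G] [Finite G]

/-- The prime divides a degree. -/
def Dg (G : Type u) [Group G] (p : ℕ) : Prop :=
  ∃ χ : Cfsg.IrrCharacter G, p ∣ Cfsg.charDegree (χ : G → ℂ)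

/-- The character is not constant on the subgroup. -/
def Nontriv (M : Subgroup G) (χ : Cfsg.IrrCharacter G) : Prop :=
  ∃ x ∈ M, (χ : G → ℂ) x ≠ (χ : G → ℂ) 1

theorem deg_of_equiv {H : Type w} [Group H] [Finite H] (e : G ≃* H) (χ : Cfsg.IrrCharacter H) :
    ∃ χ' : Cfsg.IrrCharacter G, Cfsg.charDegree (χ' : G → ℂ) = Cfsg.charDegree (χ : H → ℂ) := by
  refine ⟨⟨fun g => (χ : H → ℂ) (e g),
    Char.IsIrrCharacter.comp χ.2 e.toMonoidHom e.surjective⟩, ?_⟩
  refine Nat.cast_injective (R := ℂ) ?_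
  rw [← CharX.irr_deg, ← CharX.irr_deg]
  exact congrArg _ (map_one e)

theorem deg_lift (N : Subgroup G) [N.Normal] (χ : Cfsg.IrrCharacter (G ⧸ N)) :
    ∃ χ' : Cfsg.IrrCharacter G,
      Cfsg.charDegree (χ' : G → ℂ) = Cfsg.charDegree (χ : G ⧸ N → ℂ) := by
  refine ⟨CharX.infl N χ, Nat.cast_injective (R := ℂ) ?_⟩
  rw [← CharX.irr_deg, ← CharX.irr_deg]
  rfl

theorem not_dg_of_normal [Group.IsSolvable G] {p : ℕ} [hp : Fact p.Prime] (P : Sylow p G)
    (hn : (P : Subgroup G).Normal) (hc : IsMulCommutative (P : Subgroup G)) : ¬ Dg G p := by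
  rintro ⟨χ, hχ⟩
  haveI := hn
  haveI := Fintype.ofFinite G
  exact P.not_dvd_index (hχ.trans (Char.Ito.degree_dvd_index (P : Subgroup G) hc χ))

theorem nontriv_of_over (M : Subgroup G) [Fintype M] (χ : Cfsg.IrrCharacter G) {θ : M → ℂ}
    (hθ : Cfsg.IsIrrCharacter M θ) (hθ1 : θ ≠ fun _ => 1)
    (h : Cfsg.classInner (fun m : M => (χ : G → ℂ) m) θ ≠ 0) : Nontriv M χ := by
  by_contra hall
  simp only [Nontriv, not_exists, not_and, ne_eq, not_not] at hall
  refine h ?_
  rw [show (fun m : M => (χ : G → ℂ) m) = (χ : G → ℂ) 1 • fun _ : M => (1 : ℂ) from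
    funext fun m => by rw [Pi.smul_apply, smul_eq_mul, mul_one]; exact hall m m.2,
    Char.classInner_smul_left, Char.classInner_irr_of_ne Char.isIrrCharacter_one hθ (Ne.symm hθ1),
    mul_zero]

theorem linear_ne {M : Subgroup G} {f : M →* ℂˣ} (hf : f ≠ 1) :
    (fun m : M => (f m : ℂ)) ≠ fun _ => 1 := fun e =>
  hf (MonoidHom.ext fun m => Units.ext (by simpa using congrFun e m))

theorem exists_nontriv (M : Subgroup G) [M.Normal] [IsMulCommutative M] (hM : M ≠ ⊥) :
    ∃ χ : Cfsg.IrrCharacter G, Nontriv M χ := by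
  classical
  haveI := Fintype.ofFinite G
  haveI : Fintype M := Fintype.ofFinite M
  obtain ⟨a, ha⟩ := Subgroup.ne_bot_iff_exists_ne_one.1 hM
  obtain ⟨f, hf⟩ := exists_linear_ne_one ha
  obtain ⟨χ, hχ⟩ := Char.Ito.exists_above M ⟨_, Char.isIrrCharacter_linear f⟩
  exact ⟨χ, nontriv_of_over M χ (Char.isIrrCharacter_linear f)
    (linear_ne fun e => hf (by rw [e, MonoidHom.one_apply])) hχ⟩

/-- Two subgroups meeting trivially have a common non-trivial character. -/
theorem exists_nontriv_pair (M₁ M₂ : Subgroup G) [M₁.Normal] [M₂.Normal] (h : M₁ ⊓ M₂ = ⊥)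
    (h1 : M₁ ≠ ⊥) (h2 : M₂ ≠ ⊥) : ∃ χ : Cfsg.IrrCharacter G, Nontriv M₁ χ ∧ Nontriv M₂ χ := by
  classical
  haveI := Fintype.ofFinite G
  obtain ⟨⟨x, hx⟩, hx1⟩ := Subgroup.ne_bot_iff_exists_ne_one.1 h1
  obtain ⟨⟨y, hy⟩, hy1⟩ := Subgroup.ne_bot_iff_exists_ne_one.1 h2
  have hx1' : ¬ IsConj (1 : G) x := fun hc => hx1 (Subtype.ext (isConj_one_right.1 hc))
  have hy1' : ¬ IsConj (1 : G) y := fun hc => hy1 (Subtype.ext (isConj_one_right.1 hc))
  have hxy : ¬ IsConj x y := by
    intro hc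
    obtain ⟨c, hc⟩ := isConj_iff.1 hc
    have h' : y ∈ M₁ ⊓ M₂ := ⟨hc ▸ ‹M₁.Normal›.conj_mem x hx c, hy⟩
    rw [h, Subgroup.mem_bot] at h'
    exact hy1 (Subtype.ext h')
  by_contra hall
  push Not at hall
  have h0 : ∑ χ : Cfsg.IrrCharacter G,
      ((χ : G → ℂ) 1 - (χ : G → ℂ) x) * conj ((χ : G → ℂ) 1 - (χ : G → ℂ) y) = 0 := by
    refine Finset.sum_eq_zero fun χ _ => ?_
    by_cases hn : Nontriv M₁ χ
    · have h3 := hall χ hn
      simp only [Nontriv, not_exists, not_and, ne_eq, not_not] at h3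
      rw [h3 y hy, sub_self, map_zero, mul_zero]
    · simp only [Nontriv, not_exists, not_and, ne_eq, not_not] at hn
      rw [hn x hx, sub_self, zero_mul]
  simp only [map_sub, sub_mul, mul_sub, Finset.sum_sub_distrib] at h0
  rw [Char.column_orth_of_isConj (IsConj.refl (1 : G)), Char.column_orth_of_not_isConj hy1',
    Char.column_orth_of_not_isConj (fun hc => hx1' hc.symm), Char.column_orth_of_not_isConj hxy,
    sub_zero, sub_zero, sub_zero] at h0
  exact Nat.cast_ne_zero.2 Nat.card_pos.ne' h0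

/-- If a prime disappears from the degrees in a quotient by a minimal normal subgroup then it
divides every degree which is non-trivial on that subgroup. -/
theorem lack [Group.IsSolvable G] (M : Subgroup G) [M.Normal] [IsMulCommutative M] {s : ℕ}
    [hs : Fact s.Prime] (hMs : IsPGroup s M)
    (hmin : ∀ K : Subgroup G, K.Normal → K ≤ M → K = ⊥ ∨ K = M) {p : ℕ} [hp : Fact p.Prime]
    (hG : Dg G p) (hq : ¬ Dg (G ⧸ M) p) :
    (∀ χ : Cfsg.IrrCharacter G, Nontriv M χ → p ∣ Cfsg.charDegree (χ : G → ℂ)) ∧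
    (∀ P : Sylow p G, ((P : Subgroup G) ⊔ M).Normal ∧
      ∀ a ∈ (P : Subgroup G), ∀ b ∈ (P : Subgroup G), ⁅a, b⁆ ∈ M) ∧
    (s = p → ∀ P : Sylow p G, (P : Subgroup G).Normal ∧ M ≤ (P : Subgroup G) ∧
      ⁅(P : Subgroup G), (P : Subgroup G)⁆ = M) ∧
    (s ≠ p → ∀ P : Sylow p G, IsMulCommutative (P : Subgroup G) ∧
      M ⊓ (P : Subgroup G) = ⊥) := by
  classical
  haveI := Fintype.ofFinite G
  haveI : Fintype M := Fintype.ofFinite M
  have hsolq : Group.IsSolvable (G ⧸ M) := Group.isSolvable_of_surjective (QuotientGroup.mk'_surjective M)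
  have hconv : ∀ P : Sylow p G, (((P : Subgroup G).map (QuotientGroup.mk' M)).Normal ∧
      IsMulCommutative ((P : Subgroup G).map (QuotientGroup.mk' M))) := fun P =>
    Char.Ito.converse _ (G ⧸ M) p rfl (PSolvable.of_solvable hsolq)
      (fun φ hd => hq ⟨φ, hd⟩) (P.mapSurjective (QuotientGroup.mk'_surjective M))
  have hstruct : ∀ P : Sylow p G, ((P : Subgroup G) ⊔ M).Normal ∧
      ∀ a ∈ (P : Subgroup G), ∀ b ∈ (P : Subgroup G), ⁅a, b⁆ ∈ M := by
    intro P
    refine ⟨?_, fun a ha b hb => ?_⟩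
    · have := (hconv P).1.comap (QuotientGroup.mk' M)
      rwa [Subgroup.comap_map_eq, QuotientGroup.ker_mk'] at this
    · have h1 := congrArg Subtype.val ((hconv P).2.is_comm.comm
        (⟨_, ⟨a, ha, rfl⟩⟩ : (P : Subgroup G).map (QuotientGroup.mk' M)) ⟨_, ⟨b, hb, rfl⟩⟩)
      rw [← QuotientGroup.eq_one_iff]
      exact commutatorElement_eq_one_iff_mul_comm.2 h1
  have hsne : s ≠ p → ∀ P : Sylow p G, IsMulCommutative (P : Subgroup G) ∧
      M ⊓ (P : Subgroup G) = ⊥ := by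
    intro hsp P
    obtain ⟨i, hi⟩ := IsPGroup.iff_card.1 hMs
    obtain ⟨j, hj⟩ := IsPGroup.iff_card.1 P.isPGroup'
    have hb : M ⊓ (P : Subgroup G) = ⊥ := by
      refine disjoint_iff.1 (Subgroup.disjoint_of_coprime_natCard ?_)
      rw [hi, hj]
      exact ((Nat.coprime_primes hs.out hp.out).2 hsp).pow i j
    refine ⟨⟨⟨fun a b => Subtype.ext ?_⟩⟩, hb⟩
    have h1 : ⁅(a : G), (b : G)⁆ ∈ M ⊓ (P : Subgroup G) :=
      ⟨(hstruct P).2 a a.2 b b.2,
        (P : Subgroup G).mul_mem ((P : Subgroup G).mul_mem ((P : Subgroup G).mul_mem a.2 b.2)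
          ((P : Subgroup G).inv_mem a.2)) ((P : Subgroup G).inv_mem b.2)⟩
    rw [hb, Subgroup.mem_bot] at h1
    exact commutatorElement_eq_one_iff_mul_comm.1 h1
  have hseq : s = p → ∀ P : Sylow p G, (P : Subgroup G).Normal ∧ M ≤ (P : Subgroup G) ∧
      ⁅(P : Subgroup G), (P : Subgroup G)⁆ = M := by
    rintro rfl P
    have hMP : M ≤ (P : Subgroup G) :=
      (FittingCores.le_pCore inferInstance hMs).trans (FittingCores.pCore_le_sylow P)
    have hPn : (P : Subgroup G).Normal := by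
      have := (hstruct P).1
      rwa [sup_eq_left.2 hMP] at this
    haveI := hPn
    refine ⟨hPn, hMP, (hmin _ inferInstance ((Subgroup.commutator_le).2 (hstruct P).2)).resolve_left
      fun hb => not_dg_of_normal P hPn ⟨⟨fun a b => Subtype.ext ?_⟩⟩ hG⟩
    exact commutatorElement_eq_one_iff_mul_comm.1
      ((Subgroup.eq_bot_iff_forall _).1 hb _ (Subgroup.commutator_mem_commutator a.2 b.2))
  refine ⟨fun χ hχ => ?_, hstruct, hseq, hsne⟩
  by_contra hpd
  let P : Sylow p G := default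
  obtain ⟨x, hxM, hxne⟩ := hχ
  by_cases hsp : s = p
  · obtain ⟨hPn, hMP, hPP⟩ := hseq hsp P
    haveI := hPn
    haveI : Fintype (P : Subgroup G) := Fintype.ofFinite _
    have hdec := Char.IsCharacter.eq_sum
      (Char.IsCharacter.restrict (Char.IsIrrCharacter.isCharacter χ.2) (P : Subgroup G))
    have hlin : ∀ τ : Cfsg.IrrCharacter (P : Subgroup G),
        Cfsg.classInner (fun g : (P : Subgroup G) => (χ : G → ℂ) g) τ ≠ 0 →
        ∀ g : (P : Subgroup G), (g : G) ∈ M → (τ : ↥(P : Subgroup G) → ℂ) g = (τ : ↥(P : Subgroup G) → ℂ) 1 := by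
      intro τ hτ g hg
      obtain ⟨k, hk⟩ := IsPGroup.iff_card.1 P.isPGroup'
      obtain ⟨j, -, hj⟩ := (Nat.dvd_prime_pow hp.out).1 (hk ▸ CharX.irr_deg_dvd_card τ)
      rcases Nat.eq_zero_or_pos j with rfl | hj0
      · have h1 : (τ : ↥(P : Subgroup G) → ℂ) 1 = 1 := by rw [CharX.irr_deg, hj, pow_zero, Nat.cast_one]
        obtain ⟨l, hl⟩ := Char.exists_hom_of_degree_one (Char.IsIrrCharacter.isCharacter τ.2) h1
        rw [hl]
        show ((l g : ℂˣ) : ℂ) = ((l 1 : ℂˣ) : ℂ)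
        rw [map_one]
        have hg' : g ∈ commutator (P : Subgroup G) := by
          rw [← hPP, ← Subgroup.map_subtype_commutator] at hg
          obtain ⟨g', hg', e⟩ := hg
          rwa [show g = g' from Subtype.ext e.symm]
        rw [MonoidHom.mem_ker.1 (Abelianization.commutator_subset_ker l hg')]
      · exact absurd ((hj ▸ dvd_pow_self p hj0.ne' :
          p ∣ Cfsg.charDegree (τ : ↥(P : Subgroup G) → ℂ)).trans (Char.Ito.dvd_of_over _ χ τ hτ)) hpd
    refine hxne ?_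
    have h1 := congrFun hdec (⟨x, hMP hxM⟩ : (P : Subgroup G))
    have h2 := congrFun hdec (1 : (P : Subgroup G))
    simp only [Finset.sum_apply, Pi.smul_apply, smul_eq_mul, OneMemClass.coe_one] at h1 h2
    rw [h1, h2]
    refine Finset.sum_congr rfl fun τ _ => ?_
    by_cases hτ : Cfsg.classInner (fun g : (P : Subgroup G) => (χ : G → ℂ) g) τ = 0
    · rw [hτ, zero_mul, zero_mul]
    · rw [hlin τ hτ _ hxM]
  · obtain ⟨θ, hθ⟩ := Char.exists_restrict_constituent χ.2 M
    have hθ1 : (θ : M → ℂ) 1 = 1 := Char.degree_one_of_comm (fun a b => mul_comm' a b) θ.2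
    obtain ⟨l, hl⟩ := Char.exists_hom_of_degree_one (Char.IsIrrCharacter.isCharacter θ.2) hθ1
    rw [hl] at hθ
    have hl1 : l ≠ 1 := fun e => hxne (by
      subst e
      exact Char.restrict_over_one M χ.2 (by simpa using hθ) ⟨x, hxM⟩)
    set I := Char.inertia M (fun m : M => (l m : ℂ)) with hI
    have hpI : ¬ p ∣ I.index := fun hd =>
      hpd (hd.trans (orbit_dvd M χ (Char.isIrrCharacter_linear l) hθ))
    have hMI : M ≤ I := Char.le_inertia M
      (Char.IsCharacter.isClassFunction (Char.IsIrrCharacter.isCharacter (Char.isIrrCharacter_linear l)))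
    obtain ⟨T, hT⟩ := ((default : Sylow p I).isPGroup'.map I.subtype).exists_le_sylow
    have hTI : (T : Subgroup G) ≤ I := by
      have : (T : Subgroup G) = ((default : Sylow p I) : Subgroup I).map I.subtype := by
        refine (Subgroup.eq_of_le_of_card_ge hT ?_).symm
        rw [Subgroup.card_map_of_injective I.subtype_injective, T.card_eq_multiplicity,
          (default : Sylow p I).card_eq_multiplicity]
        refine le_of_eq (congrArg _ ?_)
        rw [← I.card_mul_index, Nat.factorization_mul Nat.card_pos.ne' Subgroup.index_ne_zero_of_finite,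
          Finsupp.add_apply, Nat.factorization_eq_zero_of_not_dvd hpI, add_zero]
      exact this ▸ Subgroup.map_subtype_le _
    have hPI : (P : Subgroup G) ≤ I := by
      obtain ⟨g, hg⟩ := MulAction.exists_smul_eq G T P
      intro y hy
      have h1 : y ∈ (T : Subgroup G) ⊔ M := by
        have hy' : y ∈ ((g • T : Sylow p G) : Subgroup G) := by rw [hg]; exact hy
        change y ∈ MulAut.conj g • (T : Subgroup G) at hy'
        obtain ⟨z, hz, rfl⟩ := hy'
        exact (hstruct T).1.conj_mem z (Subgroup.mem_sup_left hz) g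
      exact sup_le hTI hMI h1
    set Y := (P : Subgroup G) ⊔ M with hY
    haveI hYn : Y.Normal := (hstruct P).1
    let Fix : (M →* ℂˣ) → Prop := fun f =>
      ∀ y ∈ Y, ∀ a b : M, (b : G) = y * a * y⁻¹ → f b = f a
    let K : Subgroup G :=
      { carrier := {m | ∃ hm : m ∈ M, ∀ f : M →* ℂˣ, Fix f → f ⟨m, hm⟩ = 1}
        one_mem' := ⟨M.one_mem, fun f _ => map_one f⟩
        mul_mem' := fun {a b} ⟨ha, ha'⟩ ⟨hb, hb'⟩ => ⟨M.mul_mem ha hb, fun f hf =>
          (map_mul f ⟨a, ha⟩ ⟨b, hb⟩).trans (by rw [ha' f hf, hb' f hf, one_mul])⟩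
        inv_mem' := fun {a} ⟨ha, ha'⟩ => ⟨M.inv_mem ha, fun f hf =>
          (map_inv f ⟨a, ha⟩).trans (by rw [ha' f hf, inv_one])⟩ }
    have hKn : K.Normal := ⟨fun m ⟨hm, hm'⟩ g => ⟨‹M.Normal›.conj_mem m hm g, fun f hf => by
      refine hm' (f.comp (Char.conjHom M g)) fun y hy a b hb => ?_
      refine hf (g * y * g⁻¹) (hYn.conj_mem y hy g) _ _ ?_
      simp [hb, mul_assoc]⟩⟩
    have hKM : K ≠ M := fun e => hl1 (MonoidHom.ext fun m => by
      have hm : (m : G) ∈ K := e.symm ▸ m.2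
      obtain ⟨_, h1⟩ := hm
      exact h1 l fun y hy a b hb => (mem_inertia_linear M).1
        (sup_le hPI hMI hy) a b hb)
    have hK : K = ⊥ := (hmin K hKn fun m ⟨hm, _⟩ => hm).resolve_right hKM
    have hcomm : ∀ y ∈ (P : Subgroup G), ∀ m ∈ M, y * m = m * y := by
      intro y hy m hm
      have hz : y * m * y⁻¹ * m⁻¹ ∈ K := by
        refine ⟨M.mul_mem (‹M.Normal›.conj_mem m hm y) (M.inv_mem hm), fun f hf => ?_⟩
        have h1 := hf y (Subgroup.mem_sup_left hy) ⟨m, hm⟩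
          ⟨y * m * y⁻¹, ‹M.Normal›.conj_mem m hm y⟩ rfl
        have h2 := map_mul f ⟨y * m * y⁻¹, ‹M.Normal›.conj_mem m hm y⟩ ⟨m, hm⟩⁻¹
        rw [map_inv, h1, mul_inv_cancel] at h2
        exact h2
      rw [hK, Subgroup.mem_bot, mul_inv_eq_one, mul_inv_eq_iff_eq_mul] at hz
      exact hz
    have hPn : (P : Subgroup G).Normal := by
      refine ⟨fun a ha g => ?_⟩
      obtain ⟨b, hb, c, hc, hbc⟩ := Subgroup.mem_sup_of_normal_right.1
        (hYn.conj_mem a (Subgroup.mem_sup_left ha) g : g * a * g⁻¹ ∈ (P : Subgroup G) ⊔ M)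
      obtain ⟨i, hi⟩ := P.isPGroup' ⟨a, ha⟩
      obtain ⟨j, hj⟩ := P.isPGroup' ⟨b, hb⟩
      have hi' : a ^ p ^ i = 1 := congrArg Subtype.val hi
      have hj' : b ^ p ^ j = 1 := congrArg Subtype.val hj
      have hc1 : c ^ p ^ (i + j) = 1 := by
        have h1 : (g * a * g⁻¹) ^ p ^ (i + j) = 1 := by
          rw [conj_pow, pow_add, pow_mul, hi', one_pow, mul_one, mul_inv_cancel]
        rw [← hbc, (show Commute b c from hcomm b hb c hc).mul_pow, pow_add, mul_comm (p ^ i),
          pow_mul b, hj', one_pow, one_mul] at h1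
        rwa [pow_add, mul_comm (p ^ i)]
      obtain ⟨k, hk⟩ := hMs ⟨c, hc⟩
      have hc2 : c ^ s ^ k = 1 := congrArg Subtype.val hk
      have hc3 : c = 1 := by
        rw [← orderOf_eq_one_iff]
        exact Nat.eq_one_of_dvd_coprimes (((Nat.coprime_primes hp.out hs.out).2 (Ne.symm hsp)).pow _ _)
          (orderOf_dvd_of_pow_eq_one hc1) (orderOf_dvd_of_pow_eq_one hc2)
      rw [← hbc, hc3, mul_one]
      exact hb
    exact not_dg_of_normal P hPn (hsne hsp P).1 hG

end Cfsg.Agent.ThreePrimes
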