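import Cfsg.Agent.Lib.ThreePrimes.CaseB
import Cfsg.Agent.Lib.Solvable.Basic

/-!
# Three primes in the degrees of a solvable group
-/

set_option autoImplicit false
set_option linter.style.haveILetI false
set_option linter.unusedSectionVars false

namespace Cfsg.Agent.ThreePrimes

open Cfsg.Agent
open scoped commutatorElement

universe u

/-- No degree is divisible by two of the three primes. -/
def NoPair (G : Type u) [Group G] (p q r : ℕ) : Prop :=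
  ∀ χ : Cfsg.IrrCharacter G, ¬ p * q ∣ Cfsg.charDegree (χ : G → ℂ) ∧
    ¬ q * r ∣ Cfsg.charDegree (χ : G → ℂ) ∧ ¬ p * r ∣ Cfsg.charDegree (χ : G → ℂ)

variable {G : Type u} [Group G] [Finite G] {p q r : ℕ}

theorem NoPair.rotate (h : NoPair G p q r) : NoPair G q r p := fun χ =>
  ⟨(h χ).2.1, fun hd => (h χ).2.2 (mul_comm r p ▸ hd), fun hd => (h χ).1 (mul_comm q p ▸ hd)⟩

theorem NoPair.quot (h : NoPair G p q r) (N : Subgroup G) [N.Normal] : NoPair (G ⧸ N) p q r := by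
  intro χ
  obtain ⟨χ', h'⟩ := deg_lift N χ
  exact h' ▸ h χ'

/-- Two minimal normal subgroups losing the same prime. -/
theorem two_min_same [Group.IsSolvable G] (M₁ M₂ : Subgroup G) [M₁.Normal] [M₂.Normal]
    [IsMulCommutative M₁] [IsMulCommutative M₂] {s₁ s₂ : ℕ} [Fact s₁.Prime] [Fact s₂.Prime]
    (h₁ : IsPGroup s₁ M₁) (h₂ : IsPGroup s₂ M₂)
    (hmin₁ : ∀ K : Subgroup G, K.Normal → K ≤ M₁ → K = ⊥ ∨ K = M₁)
    (hmin₂ : ∀ K : Subgroup G, K.Normal → K ≤ M₂ → K = ⊥ ∨ K = M₂)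
    (hb : M₁ ⊓ M₂ = ⊥) {x : ℕ} [hx : Fact x.Prime] (hG : Dg G x)
    (hl₁ : ¬ Dg (G ⧸ M₁) x) (hl₂ : ¬ Dg (G ⧸ M₂) x) : False := by
  obtain ⟨-, hs₁, he₁, hne₁⟩ := lack M₁ h₁ hmin₁ hG hl₁
  obtain ⟨-, hs₂, he₂, hne₂⟩ := lack M₂ h₂ hmin₂ hG hl₂
  let P : Sylow x G := default
  have hc : IsMulCommutative (P : Subgroup G) := ⟨⟨fun a b => Subtype.ext (by
    have h1 : ⁅(a : G), (b : G)⁆ ∈ M₁ ⊓ M₂ :=
      ⟨(hs₁ P).2 a a.2 b b.2, (hs₂ P).2 a a.2 b b.2⟩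
    rw [hb, Subgroup.mem_bot] at h1
    exact commutatorElement_eq_one_iff_mul_comm.1 h1)⟩⟩
  by_cases e₁ : s₁ = x
  · exact not_dg_of_normal P (he₁ e₁ P).1 hc hG
  by_cases e₂ : s₂ = x
  · exact not_dg_of_normal P (he₂ e₂ P).1 hc hG
  refine not_dg_of_normal P ?_ hc hG
  refine ⟨fun a ha g => ?_⟩
  obtain ⟨b, hb₁, m₁, hm₁, e⟩ := Subgroup.mem_sup_of_normal_right.1
    ((hs₁ P).1.conj_mem a (Subgroup.mem_sup_left ha) g)
  obtain ⟨c, hc₂, m₂, hm₂, e'⟩ := Subgroup.mem_sup_of_normal_right.1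
    ((hs₂ P).1.conj_mem a (Subgroup.mem_sup_left ha) g)
  have hz : c⁻¹ * b = m₂ * m₁⁻¹ := by
    rw [eq_mul_inv_iff_mul_eq, mul_assoc, inv_mul_eq_iff_eq_mul]
    exact e.trans e'.symm
  have hcm : Commute m₂ m₁⁻¹ :=
    Subgroup.commute_of_normal_of_disjoint M₂ M₁ inferInstance inferInstance
      (disjoint_iff.2 (inf_comm M₂ M₁ ▸ hb)) _ _ hm₂ (inv_mem hm₁)
  obtain ⟨i, hi⟩ := P.isPGroup' ⟨c⁻¹ * b, mul_mem (inv_mem hc₂) hb₁⟩
  obtain ⟨j, hj⟩ := h₂ ⟨m₂, hm₂⟩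
  obtain ⟨k, hk⟩ := h₁ ⟨m₁⁻¹, inv_mem hm₁⟩
  have hi' : (m₂ * m₁⁻¹) ^ x ^ i = 1 := hz ▸ congrArg Subtype.val hi
  have hjk : (m₂ * m₁⁻¹) ^ (s₂ ^ j * s₁ ^ k) = 1 := by
    rw [hcm.mul_pow, pow_mul, show m₂ ^ s₂ ^ j = 1 from congrArg Subtype.val hj, one_pow,
      mul_comm (s₂ ^ j), pow_mul, show m₁⁻¹ ^ s₁ ^ k = 1 from congrArg Subtype.val hk, one_pow,
      mul_one]
  have hone : m₂ * m₁⁻¹ = 1 := by
    rw [← orderOf_eq_one_iff]
    refine Nat.eq_one_of_dvd_coprimes ?_ (orderOf_dvd_of_pow_eq_one hi')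
      (orderOf_dvd_of_pow_eq_one hjk)
    exact Nat.Coprime.mul_right
      (((Nat.coprime_primes hx.out Fact.out).2 (Ne.symm e₂)).pow _ _)
      (((Nat.coprime_primes hx.out Fact.out).2 (Ne.symm e₁)).pow _ _)
  have hm : m₁ = 1 := by
    have h1 : m₁ ∈ M₁ ⊓ M₂ := ⟨hm₁, by rw [← mul_inv_eq_one.1 hone]; exact hm₂⟩
    rwa [hb, Subgroup.mem_bot] at h1
  rw [← e, hm, mul_one]
  exact hb₁

theorem unique_lost [Group.IsSolvable G] (hp : p.Prime) (hq : q.Prime) (hr : r.Prime) (hpq : p ≠ q)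
    (hqr : q ≠ r) (hpr : p ≠ r) (M : Subgroup G) [M.Normal] [IsMulCommutative M] (hM : M ≠ ⊥)
    {s : ℕ} [hs : Fact s.Prime] (hMs : IsPGroup s M) (hexp : ∀ x ∈ M, x ^ s = 1)
    (hmin : ∀ K : Subgroup G, K.Normal → K ≤ M → K = ⊥ ∨ K = M)
    (huniq : ∀ K : Subgroup G, K.Normal → K ≠ ⊥ → M ≤ K)
    (hpG : Dg G p) (hqG : Dg G q) (hrG : Dg G r) (hno : NoPair G p q r)
    (hlack : ¬ Dg (G ⧸ M) p) : False := by
  haveI := Fact.mk hp
  haveI := Fact.mk hq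
  haveI := Fact.mk hr
  obtain ⟨χ, hχ⟩ := exists_nontriv M hM
  have h1 := (lack M hMs hmin hpG hlack).1 χ hχ
  have hqM : Dg (G ⧸ M) q := by
    by_contra hd
    exact (hno χ).1 (mul_dvd_deg hp hq hpq h1 ((lack M hMs hmin hqG hd).1 χ hχ))
  have hrM : Dg (G ⧸ M) r := by
    by_contra hd
    exact (hno χ).2.2 (mul_dvd_deg hp hr hpr h1 ((lack M hMs hmin hrG hd).1 χ hχ))
  by_cases e : s = p
  · subst e
    exact caseB hpq hqr hpr M hMs hexp hM hmin huniq hpG hlack hqM hrM hno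
  · exact caseA hpq hqr hpr e M hMs hexp hM hmin huniq hpG hlack hqM hrM hno

theorem three : ∀ (n : ℕ) (G : Type u) [Group G] [Finite G], Nat.card G = n →
    Group.IsSolvable G → ∀ p q r : ℕ, p.Prime → q.Prime → r.Prime → p ≠ q → q ≠ r → p ≠ r →
    Dg G p → Dg G q → Dg G r → NoPair G p q r → False := by
  intro n
  induction n using Nat.strong_induction_on with
  | _ n ih =>
  intro G _ _ hn hsolv p q r hp hq hr hpq hqr hpr hpG hqG hrG hno
  classical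
  have hne : (⊤ : Subgroup G) ≠ ⊥ := by
    intro e
    obtain ⟨χ, hχ⟩ := hpG
    have h1 : Nat.card G = 1 := by
      rw [← Subgroup.card_top, e, Subgroup.card_bot]
    exact hp.not_dvd_one (h1 ▸ hχ.trans (CharX.irr_deg_dvd_card χ))
  have hlost : ∀ M : Subgroup G, ∀ [M.Normal], M ≠ ⊥ →
      ¬ Dg (G ⧸ M) p ∨ ¬ Dg (G ⧸ M) q ∨ ¬ Dg (G ⧸ M) r := by
    intro M _ hM
    by_contra hall
    simp only [not_or, not_not] at hall
    refine ih (Nat.card (G ⧸ M)) ?_ (G ⧸ M) rfl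
      (Group.isSolvable_of_surjective (QuotientGroup.mk'_surjective M)) p q r hp hq hr hpq hqr hpr
      hall.1 hall.2.1 hall.2.2 (hno.quot M)
    rw [← hn, Subgroup.card_eq_card_quotient_mul_card_subgroup M]
    exact lt_mul_of_one_lt_right Nat.card_pos ((Subgroup.one_lt_card_iff_ne_bot M).2 hM)
  obtain ⟨M, s, hs, hMn, hM, -, hMc, hexp, hMs, hmin⟩ :=
    SolvBasic.exists_minimal_normal_abelian (N := (⊤ : Subgroup G)) inferInstance hne
  haveI := Fact.mk hs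
  haveI := Fact.mk hp
  haveI := Fact.mk hq
  haveI := Fact.mk hr
  by_cases huniq : ∀ K : Subgroup G, K.Normal → K ≠ ⊥ → M ≤ K
  · rcases hlost M hM with h | h | h
    · exact unique_lost hp hq hr hpq hqr hpr M hM hMs hexp hmin huniq hpG hqG hrG hno h
    · exact unique_lost hq hr hp hqr (Ne.symm hpr) (Ne.symm hpq) M hM hMs hexp hmin huniq
        hqG hrG hpG hno.rotate h
    · exact unique_lost hr hp hq (Ne.symm hpr) hpq (Ne.symm hqr) M hM hMs hexp hmin huniq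
        hrG hpG hqG hno.rotate.rotate h
  · simp only [not_forall] at huniq
    obtain ⟨K, hKn, hK, hMK⟩ := huniq
    obtain ⟨M', s', hs', hMn', hM', hle, hMc', -, hMs', hmin'⟩ :=
      SolvBasic.exists_minimal_normal_abelian hKn hK
    haveI := Fact.mk hs'
    have hb : M ⊓ M' = ⊥ := (hmin _ inferInstance inf_le_left).resolve_right fun e =>
      hMK ((inf_eq_left.1 e).trans hle)
    obtain ⟨χ, hχ, hχ'⟩ := exists_nontriv_pair M M' hb hM hM'
    rcases hlost M hM with h | h | h <;> rcases hlost M' hM' with h' | h' | h'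
    · exact two_min_same M M' hMs hMs' hmin hmin' hb hpG h h'
    · exact (hno χ).1 (mul_dvd_deg hp hq hpq ((lack M hMs hmin hpG h).1 χ hχ)
        ((lack M' hMs' hmin' hqG h').1 χ hχ'))
    · exact (hno χ).2.2 (mul_dvd_deg hp hr hpr ((lack M hMs hmin hpG h).1 χ hχ)
        ((lack M' hMs' hmin' hrG h').1 χ hχ'))
    · exact (hno χ).1 (mul_dvd_deg hp hq hpq ((lack M' hMs' hmin' hpG h').1 χ hχ')
        ((lack M hMs hmin hqG h).1 χ hχ))
    · exact two_min_same M M' hMs hMs' hmin hmin' hb hqG h h'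
    · exact (hno χ).2.1 (mul_dvd_deg hq hr hqr ((lack M hMs hmin hqG h).1 χ hχ)
        ((lack M' hMs' hmin' hrG h').1 χ hχ'))
    · exact (hno χ).2.2 (mul_dvd_deg hp hr hpr ((lack M' hMs' hmin' hpG h').1 χ hχ')
        ((lack M hMs hmin hrG h).1 χ hχ))
    · exact (hno χ).2.1 (mul_dvd_deg hq hr hqr ((lack M' hMs' hmin' hqG h').1 χ hχ')
        ((lack M hMs hmin hrG h).1 χ hχ))
    · exact two_min_same M M' hMs hMs' hmin hmin' hb hrG h h'

end Cfsg.Agent.ThreePrimes
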