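import Cfsg.Agent.Lib.ThreePrimes.SpreadMain
import Cfsg.Agent.Lib.ThreePrimes.Lack

/-!
# Spreads pass to the group induced on the module
-/

set_option autoImplicit false
set_option linter.style.haveILetI false
set_option linter.unusedSectionVars false

namespace Cfsg.Agent.ThreePrimes

open Cfsg.Agent
open scoped Pointwise

universe u v

variable {D : Type u} [Group D] [Finite D]
variable {E : Type v} [AddCommGroup E] [Finite E] [Nontrivial E] [DistribMulAction D E]

theorem single_sylow {q : ℕ} [Fact q.Prime] (h : Nat.card (Sylow q D) ≤ 1) (Q : Sylow q D) :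
    (Q : Subgroup D).Normal := by
  haveI : Subsingleton (Sylow q D) := Finite.card_le_one_iff_subsingleton.1 h
  exact Q.normal_of_subsingleton

theorem one_lt_of_not_normal {q : ℕ} [Fact q.Prime] (Q : Sylow q D)
    (h : ¬ (Q : Subgroup D).Normal) : 1 < Nat.card (Sylow q D) := by
  by_contra hle
  exact h (single_sylow (not_lt.1 hle) Q)

/-- The kernel of the action normalises every Sylow subgroup fixing a non-zero vector. -/
theorem Spread.kernel_normalizes {q : ℕ} [Fact q.Prime] (h : Spread q D E)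
    (hn : 1 < Nat.card (Sylow q D)) {s N : ℕ} (hs : s.Prime) (hE : Nat.card E = s ^ N)
    (Q : Sylow q D) {g : D} (hg : ∀ e : E, g • e = e) :
    g ∈ Subgroup.normalizer ((Q : Subgroup D) : Set D) := by
  obtain ⟨e, he, heQ⟩ := h.exists_fixed hn hs hE Q
  obtain ⟨Q', hQ', hQn⟩ := h e he
  obtain rfl := h.eq he heQ (mem_fixS.2 hQ')
  exact hQn (hg e)

/-- The general form of `pair`. -/
theorem pair_quot [Group.IsSolvable D] {s N : ℕ} (hs : s.Prime) (hexp : ∀ e : E, s • e = 0)
    (hE : Nat.card E = s ^ N) {q r : ℕ} [hq : Fact q.Prime] [hr : Fact r.Prime] (hqr : q ≠ r)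
    (hsq : Spread q D E) (hsr : Spread r D E)
    (hnq : ∀ Q : Sylow q D, ¬ (Q : Subgroup D).Normal)
    (hnr : ∀ R : Sylow r D, ¬ (R : Subgroup D).Normal) :
    ∃ χ : Cfsg.IrrCharacter D, q * r ∣ Cfsg.charDegree (χ : D → ℂ) := by
  classical
  let ρ : D →* AddMonoid.End E := DistribMulAction.toAddMonoidEnd D E
  let ρu : D →* (AddMonoid.End E)ˣ := ρ.toHomUnits
  letI act : DistribMulAction ρu.range E :=
    DistribMulAction.compHom E ((Units.coeHom _).comp ρu.range.subtype)
  haveI : FaithfulSMul ρu.range E :=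
    ⟨fun {a b} hab => Subtype.ext (Units.ext (AddMonoidHom.ext hab))⟩
  haveI : Finite ρu.range := Finite.of_surjective _ ρu.rangeRestrict_surjective
  haveI : Group.IsSolvable ρu.range := Group.isSolvable_of_surjective ρu.rangeRestrict_surjective
  have hact : ∀ (g : D) (e : E), ρu.rangeRestrict g • e = g • e := fun g e => rfl
  have hstab : ∀ (g : D) (e : E), ρu.rangeRestrict g ∈ MulAction.stabilizer ρu.range e ↔
      g ∈ MulAction.stabilizer D e := fun g e => Iff.rfl
  have key : ∀ {p : ℕ} [Fact p.Prime], Spread p D E → (∀ Q : Sylow p D, ¬ (Q : Subgroup D).Normal) →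
      Spread p ρu.range E ∧ 1 < Nat.card (Sylow p ρu.range) := by
    intro p _ hsp hnp
    have hsp' : Spread p ρu.range E := by
      intro e he
      obtain ⟨Q, hQ, hQn⟩ := hsp e he
      refine ⟨Q.mapSurjective ρu.rangeRestrict_surjective, ?_, ?_⟩
      · rintro _ ⟨g, hg, rfl⟩
        exact (hstab g e).2 (hQ hg)
      · intro y hy
        obtain ⟨g, rfl⟩ := ρu.rangeRestrict_surjective y
        refine Subgroup.mem_normalizer_fintype ?_
        rintro _ ⟨a, ha, rfl⟩
        exact ⟨g * a * g⁻¹, CoprimeAct.conj_mem_of_mem_normalizer (hQn ((hstab g e).1 hy)) ha,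
          by simp⟩
    refine ⟨hsp', ?_⟩
    by_contra hle
    -- the only Sylow subgroup of the image fixes everything
    haveI : Subsingleton (Sylow p ρu.range) := Finite.card_le_one_iff_subsingleton.1 (not_lt.1 hle)
    obtain ⟨e₀, he₀⟩ := exists_ne (0 : E)
    obtain ⟨Q, hQ₀, hQn₀⟩ := hsp e₀ he₀
    have hfix : ∀ g ∈ (Q : Subgroup D), ∀ e : E, g • e = e := by
      intro g hg e
      by_cases he : e = 0
      · rw [he, smul_zero]
      obtain ⟨T, hT, -⟩ := hsp' e he
      have h1 : ρu.rangeRestrict g ∈ (T : Subgroup ρu.range) := by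
        rw [Subsingleton.elim T (Q.mapSurjective ρu.rangeRestrict_surjective)]
        exact ⟨g, hg, rfl⟩
      exact hT h1
    refine hnp Q ⟨fun a ha d => ?_⟩
    have hall : ∀ y ∈ ((d • Q : Sylow p D) : Subgroup D), ∀ e : E, y • e = e := by
      intro y hy e
      change y ∈ MulAut.conj d • (Q : Subgroup D) at hy
      obtain ⟨z, hz, rfl⟩ := hy
      show (d * z * d⁻¹) • e = e
      rw [mul_smul, mul_smul, hfix z hz, smul_inv_smul]
    have heq : (d • Q : Sylow p D) = Q :=
      hsp.eq he₀ (mem_fixS.2 fun y hy => hall y hy e₀) (mem_fixS.2 hQ₀)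
    have h2 : d * a * d⁻¹ ∈ MulAut.conj d • (Q : Subgroup D) := ⟨a, ha, rfl⟩
    change d * a * d⁻¹ ∈ ((d • Q : Sylow p D) : Subgroup D) at h2
    rwa [heq] at h2
  obtain ⟨hq1, hq2⟩ := key hsq hnq
  obtain ⟨hr1, hr2⟩ := key hsr hnr
  obtain ⟨χ, hχ⟩ := pair hs hexp hE hqr hq1 hr1 hq2 hr2
  let e := QuotientGroup.quotientKerEquivRange ρu
  obtain ⟨χ₁, h₁⟩ := deg_of_equiv e χ
  obtain ⟨χ₂, h₂⟩ := deg_lift ρu.ker χ₁
  exact ⟨χ₂, by rw [h₂, h₁]; exact hχ⟩

end Cfsg.Agent.ThreePrimes
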