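import Cfsg.Agent.Lib.Char.CoprimeDegree
import Cfsg.Agent.Lib.Char.Gallagher
import Cfsg.Agent.Lib.Char.ItoPSolvable
import Cfsg.Agent.Lib.PLocal.PSolvable
import Cfsg.Agent.Lib.Char.CoprimeConstituent

/-!
# Degrees over a character of a complemented normal subgroup
-/

set_option autoImplicit false
set_option linter.style.haveILetI false
set_option linter.unusedSectionVars false

namespace Cfsg.Agent.ThreePrimes

open Cfsg.Agent

universe u v

variable {G : Type u} [Group G] [Finite G]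

/-- The projection on a complement of a normal subgroup. -/
theorem exists_proj_complement (P : Subgroup G) [P.Normal] (H : Subgroup G) (hdis : P ⊓ H = ⊥)
    (hsup : P ⊔ H = ⊤) :
    ∃ π : G →* H, (∀ h : H, π h = h) ∧ ∀ g : G, g * (π g : G)⁻¹ ∈ P := by
  have hbij : Function.Bijective ((QuotientGroup.mk' P).comp H.subtype) := by
    constructor
    · rw [injective_iff_map_eq_one]
      intro h hh
      have h1 : (h : G) ∈ P ⊓ H := ⟨(QuotientGroup.eq_one_iff (h : G)).1 hh, h.2⟩
      rw [hdis, Subgroup.mem_bot] at h1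
      exact Subtype.ext h1
    · intro x
      obtain ⟨g, rfl⟩ := QuotientGroup.mk_surjective x
      obtain ⟨a, ha, b, hb, hab⟩ := Subgroup.mem_sup_of_normal_left.1
        (hsup ▸ Subgroup.mem_top g : g ∈ P ⊔ H)
      refine ⟨⟨b, hb⟩, ?_⟩
      show ((b : G) : G ⧸ P) = g
      rw [← hab, QuotientGroup.mk_mul, (QuotientGroup.eq_one_iff a).2 ha, one_mul]
  let e := MulEquiv.ofBijective _ hbij
  refine ⟨e.symm.toMonoidHom.comp (QuotientGroup.mk' P), fun h => ?_, fun g => ?_⟩
  · exact e.symm_apply_apply h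
  · rw [← QuotientGroup.eq_one_iff, QuotientGroup.mk_mul, QuotientGroup.mk_inv, mul_inv_eq_one]
    exact (e.apply_symm_apply (g : G ⧸ P)).symm

/-- The degree over a character is a multiple of the index of its inertia group. -/
theorem orbit_dvd (N : Subgroup G) [N.Normal] [Fintype N] (χ : Cfsg.IrrCharacter G) {θ : N → ℂ}
    (hθ : Cfsg.IsIrrCharacter N θ) (h : Cfsg.classInner (fun n : N => (χ : G → ℂ) n) θ ≠ 0) :
    (Char.inertia N θ).index ∣ Cfsg.charDegree (χ : G → ℂ) := by
  classical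
  haveI := Fintype.ofFinite G
  obtain ⟨e, he⟩ := Char.IsCharacter.exists_classInner_nat
    (Char.IsCharacter.restrict (Char.IsIrrCharacter.isCharacter χ.2) N)
    (Char.IsIrrCharacter.isCharacter hθ)
  have h1 := Char.clifford_degree N χ.2 hθ h
  rw [he, CharX.deg_spec (Char.IsIrrCharacter.isCharacter χ.2),
    CharX.deg_spec (Char.IsIrrCharacter.isCharacter hθ)] at h1
  have h' : Cfsg.charDegree (χ : G → ℂ) = e * (Char.inertia N θ).index * Cfsg.charDegree θ := by
    exact_mod_cast h1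
  exact h' ▸ dvd_mul_of_dvd_left (Dvd.intro_left _ rfl) _

/-- A linear character of a complemented normal subgroup extends to its inertia group. -/
theorem linear_extension (P : Subgroup G) [P.Normal] (H : Subgroup G) (hdis : P ⊓ H = ⊥)
    (hsup : P ⊔ H = ⊤) (μ : P →* ℂˣ) :
    ∃ ψ : ↥(Char.inertia P fun n : P => (μ n : ℂ)) → ℂ, Cfsg.IsIrrCharacter _ ψ ∧
      ∀ (n : P) (hn : (n : G) ∈ Char.inertia P fun n : P => (μ n : ℂ)),
        ψ ⟨n, hn⟩ = (μ n : ℂ) := by
  classical
  obtain ⟨π, hπ, hπ'⟩ := exists_proj_complement P H hdis hsup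
  set I := Char.inertia P fun n : P => (μ n : ℂ) with hI
  have hinv : ∀ g ∈ I, ∀ (a : P) (b : P), (b : G) = g * a * g⁻¹ → μ b = μ a := by
    intro g hg a b hb
    have h1 := congrFun ((Char.mem_inertia P).1 hg) a
    rw [show b = ⟨g * a * g⁻¹, ‹P.Normal›.conj_mem a a.2 g⟩ from Subtype.ext hb]
    exact Units.ext h1
  let f : I →* ℂˣ :=
    { toFun := fun g => μ ⟨(g : G) * (π g : G)⁻¹, hπ' g⟩
      map_one' := by
        rw [← map_one μ]; congr 1; exact Subtype.ext (by simp)
      map_mul' := fun g g' => by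
        have hh : (π (g : G) : G) ∈ I := by
          have h1 : (π (g : G) : G) = ((g : G) * (π (g : G) : G)⁻¹)⁻¹ * (g : G) := by group
          rw [h1]
          exact mul_mem (inv_mem (Char.le_inertia P (Char.IsCharacter.isClassFunction
            (Char.IsIrrCharacter.isCharacter (Char.isIrrCharacter_linear μ))) (hπ' g))) g.2
        set a : P := ⟨(g' : G) * (π g' : G)⁻¹, hπ' g'⟩ with ha
        set b : P := ⟨(π (g : G) : G) * a * (π (g : G) : G)⁻¹,
          ‹P.Normal›.conj_mem a a.2 _⟩ with hb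
        rw [← hinv _ hh a b rfl, ← map_mul]
        refine congrArg μ (Subtype.ext ?_)
        simp only [Subgroup.coe_mul, map_mul, hb, ha]
        group }
  refine ⟨fun g => (f g : ℂ), Char.isIrrCharacter_linear f, fun n hn => ?_⟩
  show ((μ ⟨(n : G) * (π (n : G) : G)⁻¹, _⟩ : ℂˣ) : ℂ) = μ n
  refine congrArg (fun z : P => ((μ z : ℂˣ) : ℂ)) (Subtype.ext ?_)
  have h1 : (π (n : G) : G) ∈ P ⊓ H := by
    refine ⟨?_, (π (n : G)).2⟩
    have h2 := mul_mem (inv_mem (hπ' (n : G))) n.2
    simpa using h2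
  rw [hdis, Subgroup.mem_bot] at h1
  show (n : G) * (π (n : G) : G)⁻¹ = n
  rw [h1, inv_one, mul_one]

/-- An invariant character of a normal Hall subgroup extends to its inertia group. -/
theorem coprime_extension (P : Subgroup G) [P.Normal] (hcop : (Nat.card P).Coprime P.index)
    [Fintype P] {θ : P → ℂ} (hθ : Cfsg.IsIrrCharacter P θ) :
    ∃ ψ : ↥(Char.inertia P θ) → ℂ, Cfsg.IsIrrCharacter _ ψ ∧
      ∀ (n : P) (hn : (n : G) ∈ Char.inertia P θ), ψ ⟨n, hn⟩ = θ n := by
  classical
  set I := Char.inertia P θ with hI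
  have hPI : P ≤ I := Char.le_inertia P
    (Char.IsCharacter.isClassFunction (Char.IsIrrCharacter.isCharacter hθ))
  haveI : (P.subgroupOf I).Normal := Subgroup.Normal.subgroupOf inferInstance I
  haveI : Fintype (P.subgroupOf I) := Fintype.ofFinite _
  let e := Subgroup.subgroupOfEquivOfLe hPI
  have hθ' : Cfsg.IsIrrCharacter (P.subgroupOf I) fun x => θ (e x) :=
    Char.IsIrrCharacter.comp hθ e.toMonoidHom e.surjective
  have hcop' : (Nat.card (P.subgroupOf I)).Coprime (P.subgroupOf I).index := by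
    rw [Nat.card_congr e.toEquiv]
    exact hcop.coprime_dvd_right (Subgroup.relIndex_dvd_index_of_normal P I)
  obtain ⟨ψ, hψ, hψe⟩ := CoprimeDegree.exists_extension_coprime (P.subgroupOf I) hcop' hθ' fun g =>
    funext fun x => (Char.mem_inertia_iff P).1 g.2 (e x) |> fun h1 => Eq.trans
      (congrArg θ (Subtype.ext rfl)) h1
  refine ⟨ψ, hψ, fun n hn => ?_⟩
  exact (hψe ⟨⟨n, hn⟩, n.2⟩).trans (congrArg θ (Subtype.ext rfl))

/-- If the degrees over an extendible character of a complemented normal subgroup are prime to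
`r`, then its stabiliser in the complement contains an abelian normal Sylow `r`-subgroup of the
complement. -/
theorem stab_sylow [Group.IsSolvable G] (P : Subgroup G) [P.Normal] [Fintype P] (H : Subgroup G)
    (hdis : P ⊓ H = ⊥) (hsup : P ⊔ H = ⊤) {θ : P → ℂ} (hθ : Cfsg.IsIrrCharacter P θ)
    (hext : ∃ ψ : ↥(Char.inertia P θ) → ℂ, Cfsg.IsIrrCharacter _ ψ ∧
      ∀ (n : P) (hn : (n : G) ∈ Char.inertia P θ), ψ ⟨n, hn⟩ = θ n)
    {r : ℕ} [hr : Fact r.Prime]
    (hdeg : ∀ χ : Cfsg.IrrCharacter G, Cfsg.classInner (fun n : P => (χ : G → ℂ) n) θ ≠ 0 →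
      ¬ r ∣ Cfsg.charDegree (χ : G → ℂ)) :
    ∃ R : Sylow r H, (R : Subgroup H) ≤ (Char.inertia P θ).subgroupOf H ∧
      (Char.inertia P θ).subgroupOf H ≤ Subgroup.normalizer ((R : Subgroup H) : Set H) ∧
      IsMulCommutative (R : Subgroup H) := by
  classical
  haveI := Fintype.ofFinite G
  obtain ⟨π, hπ, hπ'⟩ := exists_proj_complement P H hdis hsup
  set I := Char.inertia P θ with hI
  obtain ⟨ψ, hψ, hψθ⟩ := hext
  haveI : Fintype I := Fintype.ofFinite _
  have hPI : P ≤ I := Char.le_inertia P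
    (Char.IsCharacter.isClassFunction (Char.IsIrrCharacter.isCharacter hθ))
  set J := I.subgroupOf H with hJ
  have hmem : ∀ g : G, g ∈ I ↔ π g ∈ J := by
    intro g
    have h1 : g = g * (π g : G)⁻¹ * (π g : G) := by group
    rw [hJ, Subgroup.mem_subgroupOf]
    conv_lhs => rw [h1]
    exact Subgroup.mul_mem_cancel_left I (hPI (hπ' g))
  have hidx : I.index = J.index := by
    rw [show I = J.comap π from Subgroup.ext hmem]
    exact Subgroup.index_comap_of_surjective _ fun h => ⟨h, hπ h⟩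
  let πI : I →* J :=
    { toFun := fun g => ⟨π (g : G), (hmem g).1 g.2⟩
      map_one' := Subtype.ext (map_one π)
      map_mul' := fun a b => Subtype.ext (map_mul π (a : G) (b : G)) }
  have hπI : Function.Surjective πI := fun j =>
    ⟨⟨((j : H) : G), j.2⟩, Subtype.ext (hπ (j : H))⟩
  haveI : (P.subgroupOf I).Normal := Subgroup.Normal.subgroupOf inferInstance I
  haveI : Fintype (P.subgroupOf I) := Fintype.ofFinite _
  let e := Subgroup.subgroupOfEquivOfLe hPI
  have hψP : (fun x : P.subgroupOf I => ψ x) = fun x => θ (e x) :=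
    funext fun x => hψθ (e x) x.1.2
  obtain ⟨hgal, -, -⟩ := Char.gallagher_one (P.subgroupOf I) (Char.IsIrrCharacter.isCharacter hψ)
    (by rw [hψP]; exact Char.IsIrrCharacter.comp hθ e.toMonoidHom e.surjective)
  have hkey : ∀ β : Cfsg.IrrCharacter J,
      ¬ r ∣ I.index ∧ ¬ r ∣ Cfsg.charDegree (β : J → ℂ) := by
    intro β
    let β' : Cfsg.IrrCharacter I :=
      ⟨fun g => (β : J → ℂ) (πI g), Char.IsIrrCharacter.comp β.2 πI hπI⟩
    have htriv : ∀ n : I, (n : G) ∈ P → (β' : I → ℂ) n = (β : J → ℂ) 1 := by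
      intro n hn
      show (β : J → ℂ) (πI n) = _
      refine congrArg (β : J → ℂ) (Subtype.ext (Subtype.ext ?_))
      have h1 : (π (n : G) : G) ∈ P ⊓ H := by
        refine ⟨?_, (π (n : G)).2⟩
        have h2 := mul_mem (inv_mem (hπ' (n : G))) hn
        simpa using h2
      rw [hdis, Subgroup.mem_bot] at h1
      exact h1
    have hone : (β' : I → ℂ) 1 = (β : J → ℂ) 1 := htriv 1 P.one_mem
    have hirr := hgal β' fun n => (htriv n n.2).trans hone.symm
    have hc : Cfsg.classInner (fun n : P => ((β' : I → ℂ) * ψ) ⟨(n : G), hPI n.2⟩) θ ≠ 0 := by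
      rw [show (fun n : P => ((β' : I → ℂ) * ψ) ⟨(n : G), hPI n.2⟩) = (β : J → ℂ) 1 • θ from
        funext fun n => by
          rw [Pi.mul_apply, htriv _ n.2, hψθ n (hPI n.2), Pi.smul_apply, smul_eq_mul],
        Char.classInner_smul_left, Char.classInner_self_irr hθ, mul_one]
      exact Char.IsIrrCharacter.one_ne_zero β.2
    obtain ⟨hind, hinner⟩ := Char.clifford_correspondence P hθ hI hPI hirr hc
    have h1 := hdeg ⟨_, hind⟩ (by rw [hinner]; exact hc)
    have h2 : (Cfsg.charDegree (Cfsg.indFun I ((β' : I → ℂ) * ψ)) : ℂ) =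
        (I.index : ℂ) * (Cfsg.charDegree (β : J → ℂ) * Cfsg.charDegree ψ : ℕ) := by
      rw [← CharX.deg_spec (Char.IsIrrCharacter.isCharacter hind), Char.indFun_one_apply,
        Pi.mul_apply, hone, CharX.deg_spec (Char.IsIrrCharacter.isCharacter β.2),
        CharX.deg_spec (Char.IsIrrCharacter.isCharacter hψ), Nat.cast_mul]
    have h3 : Cfsg.charDegree (Cfsg.indFun I ((β' : I → ℂ) * ψ)) =
        I.index * (Cfsg.charDegree (β : J → ℂ) * Cfsg.charDegree ψ) := by exact_mod_cast h2
    exact ⟨fun hd => h1 (h3 ▸ hd.mul_right _),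
      fun hd => h1 (h3 ▸ (hd.mul_right _).mul_left _)⟩
  have hr1 : ¬ r ∣ J.index := hidx ▸ (hkey ⟨_, Char.isIrrCharacter_one⟩).1
  have hJsolv : Group.IsSolvable J := inferInstance
  obtain ⟨hTn, hTc⟩ := Char.Ito.converse (Nat.card J) J r rfl
    (PSolvable.of_solvable hJsolv) (fun β => (hkey β).2) (default : Sylow r J)
  set T : Sylow r J := default
  set R₀ : Subgroup H := (T : Subgroup J).map J.subtype with hR₀
  obtain ⟨R, hR⟩ := (T.isPGroup'.map J.subtype).exists_le_sylow
  have hcard : (R : Subgroup H) = R₀ := by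
    refine (Subgroup.eq_of_le_of_card_ge hR ?_).symm
    rw [Subgroup.card_map_of_injective J.subtype_injective, R.card_eq_multiplicity,
      T.card_eq_multiplicity]
    refine le_of_eq (congrArg _ ?_)
    rw [← J.card_mul_index, Nat.factorization_mul Nat.card_pos.ne' Subgroup.index_ne_zero_of_finite,
      Finsupp.add_apply, Nat.factorization_eq_zero_of_not_dvd hr1, add_zero]
  refine ⟨R, hcard ▸ Subgroup.map_subtype_le _, fun j hj => ?_, ?_⟩
  · rw [hcard]
    refine Subgroup.mem_normalizer_fintype ?_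
    rintro _ ⟨t, ht, rfl⟩
    exact ⟨⟨j, hj⟩ * t * ⟨j, hj⟩⁻¹, hTn.conj_mem t ht _, rfl⟩
  · rw [hcard]
    haveI := hTc
    exact Subgroup.map_isMulCommutative _ _

end Cfsg.Agent.ThreePrimes
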