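import Cfsg.Agent.Lib.ThreePrimes.ClassTwo
import Cfsg.Agent.Lib.LocalEven.Zsigmondy
import Cfsg.Agent.Lib.Char.ItoPSolvable

/-!
# Two spreads of Sylow subgroups

If every non-zero vector is fixed by a unique Sylow `q`-subgroup, normal in its stabiliser, and
likewise for `r`, then a soluble linear group has a character degree divisible by `q * r`.
-/

set_option autoImplicit false
set_option linter.style.haveILetI false
set_option linter.unusedSectionVars false

namespace Cfsg.Agent.ThreePrimes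

open Cfsg.Agent
open scoped commutatorElement Pointwise

universe u v w

/-- Every non-zero vector is fixed by a Sylow `q`-subgroup that is normal in its stabiliser. -/
def Spread (q : ℕ) (D : Type u) (E : Type v) [Group D] [AddCommGroup E] [DistribMulAction D E] :
    Prop :=
  ∀ e : E, e ≠ 0 → ∃ Q : Sylow q D, (Q : Subgroup D) ≤ MulAction.stabilizer D e ∧
    MulAction.stabilizer D e ≤ Subgroup.normalizer ((Q : Subgroup D) : Set D)

section Count

variable {D : Type u} [Group D] [Finite D]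
variable {E : Type v} [AddCommGroup E] [Finite E] [DistribMulAction D E]
variable {q : ℕ} [hq : Fact q.Prime]

/-- The vectors fixed by a subgroup. -/
def fixS (E : Type v) [AddCommGroup E] [DistribMulAction D E] (S : Subgroup D) : AddSubgroup E where
  carrier := {e | ∀ g ∈ S, g • e = e}
  zero_mem' g _ := smul_zero g
  add_mem' {x y} hx hy g hg := by rw [smul_add, hx g hg, hy g hg]
  neg_mem' {x} hx g hg := by rw [smul_neg, hx g hg]

theorem mem_fixS {S : Subgroup D} {e : E} : e ∈ fixS E S ↔ S ≤ MulAction.stabilizer D e := Iff.rfl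

theorem Spread.eq (h : Spread q D E) {e : E} (he : e ≠ 0) {Q Q' : Sylow q D}
    (hQ : e ∈ fixS E (Q : Subgroup D)) (hQ' : e ∈ fixS E (Q' : Subgroup D)) : Q = Q' := by
  obtain ⟨P, hP, hnorm⟩ := h e he
  have key : ∀ T : Sylow q D, e ∈ fixS E (T : Subgroup D) → T = P := by
    intro T hT
    have h1 : (T : Subgroup D) ≤ (P : Subgroup D) := by
      have h2 := T.isPGroup'.inf_normalizer_sylow P
      rw [inf_eq_left.2 (show (T : Subgroup D) ≤ Subgroup.normalizer (P : Set D) from
        (mem_fixS.1 hT).trans hnorm)] at h2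
      exact h2 ▸ inf_le_right
    exact Sylow.ext (T.is_maximal' P.isPGroup' h1).symm
  rw [key Q hQ, key Q' hQ']

theorem Spread.commute_elt {r : ℕ} [Fact r.Prime] (hqr : q ≠ r) {e : E} {Q : Sylow q D}
    {R : Sylow r D} (hQ : (Q : Subgroup D) ≤ MulAction.stabilizer D e)
    (hQn : MulAction.stabilizer D e ≤ Subgroup.normalizer ((Q : Subgroup D) : Set D))
    (hR : (R : Subgroup D) ≤ MulAction.stabilizer D e)
    (hRn : MulAction.stabilizer D e ≤ Subgroup.normalizer ((R : Subgroup D) : Set D))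
    {g h : D} (hg : g ∈ (Q : Subgroup D)) (hh : h ∈ (R : Subgroup D)) : g * h = h * g := by
  rw [← commutatorElement_eq_one_iff_mul_comm]
  have h1 : ⁅g, h⁆ ∈ (Q : Subgroup D) := by
    have := CoprimeAct.conj_mem_of_mem_normalizer (hQn (hR hh)) (inv_mem hg)
    simpa [commutatorElement_def, mul_assoc] using mul_mem hg this
  have h2 : ⁅g, h⁆ ∈ (R : Subgroup D) := by
    have := CoprimeAct.conj_mem_of_mem_normalizer (hRn (hQ hg)) hh
    simpa [commutatorElement_def, mul_assoc] using mul_mem this (inv_mem hh)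
  obtain ⟨a, ha⟩ := IsPGroup.iff_card.1 Q.isPGroup'
  obtain ⟨b, hb⟩ := IsPGroup.iff_card.1 R.isPGroup'
  rw [← orderOf_eq_one_iff]
  refine Nat.eq_one_of_dvd_coprimes ?_ (Subgroup.orderOf_dvd_natCard _ h1)
    (Subgroup.orderOf_dvd_natCard _ h2)
  rw [ha, hb]
  exact ((Nat.coprime_primes hq.out Fact.out).2 hqr).pow a b

variable [Nontrivial E]

/-- The counting equation. -/
theorem Spread.count (h : Spread q D E) (hn : 1 < Nat.card (Sylow q D)) {s N : ℕ} (hs : s.Prime)
    (hE : Nat.card E = s ^ N) :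
    ∃ f, 0 < f ∧ f < N ∧ Nat.card (Sylow q D) * (s ^ f - 1) = s ^ N - 1 ∧
      ∀ Q : Sylow q D, Nat.card (fixS E (Q : Subgroup D)) = s ^ f := by
  classical
  let Q₀ : Sylow q D := default
  obtain ⟨f, hfN, hf⟩ :=
    (Nat.dvd_prime_pow hs).1 (hE ▸ (fixS E (Q₀ : Subgroup D)).card_addSubgroup_dvd_card)
  have hconst : ∀ Q : Sylow q D, Nat.card (fixS E (Q : Subgroup D)) = s ^ f := by
    intro Q
    obtain ⟨g, rfl⟩ := MulAction.exists_smul_eq D Q₀ Q
    have hc : ∀ d, d ∈ ((g • Q₀ : Sylow q D) : Subgroup D) ↔ g⁻¹ * d * g ∈ (Q₀ : Subgroup D) := by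
      intro d
      show d ∈ MulAut.conj g • (Q₀ : Subgroup D) ↔ _
      rw [Subgroup.mem_pointwise_smul_iff_inv_smul_mem]
      simp [MulAut.smul_def]
    rw [← hf]
    refine Nat.card_congr ⟨fun e => ⟨g⁻¹ • (e : E), fun d hd => ?_⟩,
      fun e => ⟨g • (e : E), fun d hd => ?_⟩, fun e => by simp, fun e => by simp⟩
    · have h1 := e.2 (g * d * g⁻¹) ((hc _).2 (by simpa [mul_assoc] using hd))
      calc d • g⁻¹ • (e : E) = g⁻¹ • ((g * d * g⁻¹) • (e : E)) := by
            simp only [← mul_smul]; congr 1; group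
        _ = g⁻¹ • (e : E) := by rw [h1]
    · have h1 := e.2 (g⁻¹ * d * g) ((hc d).1 hd)
      calc d • g • (e : E) = g • ((g⁻¹ * d * g) • (e : E)) := by
            simp only [← mul_smul]; congr 1; group
        _ = g • (e : E) := by rw [h1]
  obtain ⟨e, he⟩ := exists_ne (0 : E)
  obtain ⟨Q, hQ, -⟩ := h e he
  refine ⟨f, Nat.pos_of_ne_zero fun h0 => he ?_, ?_, ?_, hconst⟩
  · have h1 := hconst Q
    rw [h0, pow_zero, AddSubgroup.card_eq_one] at h1
    exact (AddSubgroup.eq_bot_iff_forall _).1 h1 e (mem_fixS.2 hQ)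
  · refine lt_of_le_of_ne hfN fun hfe => ?_
    obtain ⟨Q₁, Q₂, hne⟩ := Finite.one_lt_card_iff_nontrivial.1 hn
    have htop : ∀ T : Sylow q D, e ∈ fixS E (T : Subgroup D) := fun T => by
      rw [AddSubgroup.eq_top_of_card_eq (fixS E (T : Subgroup D)) (by rw [hconst T, hE, hfe])]
      trivial
    exact hne (h.eq he (htop Q₁) (htop Q₂))
  · haveI : Fintype (Sylow q D) := Fintype.ofFinite _
    let φ : (Σ Q : Sylow q D, {x : fixS E (Q : Subgroup D) // x ≠ 0}) → {x : E // x ≠ 0} :=
      fun p => ⟨((p.2 : fixS E (p.1 : Subgroup D)) : E), fun h0 => p.2.2 (Subtype.ext h0)⟩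
    have hφ : Function.Bijective φ := by
      constructor
      · rintro ⟨Q, ⟨x, hx⟩, hx0⟩ ⟨Q', ⟨y, hy⟩, hy0⟩ hxy
        obtain rfl : x = y := congrArg Subtype.val hxy
        obtain rfl := h.eq (fun h0 => hx0 (Subtype.ext h0)) hx hy
        rfl
      · rintro ⟨x, hx⟩
        obtain ⟨T, hT, -⟩ := h x hx
        exact ⟨⟨T, ⟨x, mem_fixS.2 hT⟩, fun h0 => hx (congrArg Subtype.val h0)⟩, rfl⟩
    have hne : ∀ (A : Type v) [AddCommGroup A] [Finite A],
        Nat.card {x : A // x ≠ 0} = Nat.card A - 1 := fun A _ _ => by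
      haveI := Fintype.ofFinite A
      rw [Nat.card_eq_fintype_card, Nat.card_eq_fintype_card, Fintype.card_subtype_compl,
        Fintype.card_subtype_eq]
    have h1 := Nat.card_eq_of_bijective φ hφ
    rw [Nat.card_sigma, hne E, hE, Finset.sum_congr rfl fun Q _ => (hne _).trans (by rw [hconst Q]),
      Finset.sum_const, Finset.card_univ, ← Nat.card_eq_fintype_card, smul_eq_mul] at h1
    exact h1

theorem Spread.exists_fixed (h : Spread q D E) (hn : 1 < Nat.card (Sylow q D)) {s N : ℕ}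
    (hs : s.Prime) (hE : Nat.card E = s ^ N) (Q : Sylow q D) :
    ∃ e : E, e ≠ 0 ∧ e ∈ fixS E (Q : Subgroup D) := by
  obtain ⟨f, hf0, -, -, hc⟩ := h.count hn hs hE
  haveI : Nontrivial (fixS E (Q : Subgroup D)) := Finite.one_lt_card_iff_nontrivial.1
    (by rw [hc Q]; exact Nat.one_lt_pow hf0.ne' hs.one_lt)
  obtain ⟨e, he⟩ := exists_ne (0 : fixS E (Q : Subgroup D))
  exact ⟨e, fun h0 => he (Subtype.ext h0), e.2⟩

/-- An element of order `q` fixes a non-zero vector. -/
theorem Spread.exists_fixed_elt (h : Spread q D E) (hn : 1 < Nat.card (Sylow q D)) {s N : ℕ}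
    (hs : s.Prime) (hE : Nat.card E = s ^ N) {g : D} (hg : orderOf g = q) :
    ∃ e : E, e ≠ 0 ∧ g • e = e := by
  obtain ⟨Q, hQ⟩ := (IsPGroup.of_card (n := 1) (by rw [Nat.card_zpowers, hg, pow_one]) :
    IsPGroup q (Subgroup.zpowers g)).exists_le_sylow
  obtain ⟨e, he, heQ⟩ := h.exists_fixed hn hs hE Q
  exact ⟨e, he, heQ g (hQ (Subgroup.mem_zpowers g))⟩

theorem dvd_card_of_one_lt (hn : 1 < Nat.card (Sylow q D)) : q ∣ Nat.card D := by
  by_contra hd
  obtain ⟨Q₁, Q₂, hne⟩ := Finite.one_lt_card_iff_nontrivial.1 hn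
  have : ∀ Q : Sylow q D, (Q : Subgroup D) = ⊥ := fun Q => by
    rcases Q.isPGroup'.card_eq_or_dvd with h1 | h1
    · exact Subgroup.card_eq_one.1 h1
    · exact absurd (h1.trans (Subgroup.card_subgroup_dvd_card _)) hd
  exact hne (Sylow.ext ((this Q₁).trans (this Q₂).symm))

theorem dvd_sylow_sub_one : q ∣ Nat.card (Sylow q D) - 1 :=
  (Nat.modEq_iff_dvd' Nat.card_pos).1 (card_sylow_modEq_one q D).symm

end Count

/-- The possibilities for a field of order `2 ^ 6`. -/
theorem six_cases {n f : ℕ} (hf : 0 < f) (hf6 : f < 6) (h : n * (2 ^ f - 1) = 2 ^ 6 - 1) :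
    (f = 1 ∧ n = 63) ∨ (f = 2 ∧ n = 21) ∨ (f = 3 ∧ n = 9) := by
  interval_cases f <;> norm_num at h <;> omega

section Pair

variable {D : Type u} [Group D] [Finite D]

/-- A character over a character of a normal subgroup. -/
theorem exists_deg_orbit (A : Subgroup D) [A.Normal] [Fintype A] {φ : A → ℂ}
    (hφ : Cfsg.IsIrrCharacter A φ) :
    ∃ χ : Cfsg.IrrCharacter D, (Char.inertia A φ).index ∣ Cfsg.charDegree (χ : D → ℂ) := by
  classical
  haveI := Fintype.ofFinite D
  obtain ⟨χ, hχ⟩ := Char.Ito.exists_above A ⟨φ, hφ⟩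
  obtain ⟨e, he⟩ := Char.IsCharacter.exists_classInner_nat
    (Char.IsCharacter.restrict (Char.IsIrrCharacter.isCharacter χ.2) A)
    (Char.IsIrrCharacter.isCharacter hφ)
  refine ⟨χ, ?_⟩
  have h := Char.clifford_degree A χ.2 hφ hχ
  rw [he, CharX.deg_spec (Char.IsIrrCharacter.isCharacter χ.2),
    CharX.deg_spec (Char.IsIrrCharacter.isCharacter hφ)] at h
  have h' : Cfsg.charDegree (χ : D → ℂ) = e * (Char.inertia A φ).index * Cfsg.charDegree φ := by
    exact_mod_cast h
  exact h' ▸ dvd_mul_of_dvd_left (Dvd.intro_left _ rfl) _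

theorem dvd_index {q : ℕ} [Fact q.Prime] (hqD : q ∣ Nat.card D) {J : Subgroup D}
    (h : ∀ g : D, orderOf g = q → g ∈ J → False) : q ∣ J.index := by
  rw [← J.card_mul_index] at hqD
  refine ((Nat.Prime.dvd_mul Fact.out).1 hqD).resolve_left fun hd => ?_
  obtain ⟨g, hg⟩ := exists_prime_orderOf_dvd_card' q hd
  exact h g (by rw [Subgroup.orderOf_coe, hg]) g.2

theorem exists_injective_hom (A : Subgroup D) [IsCyclic A] :
    ∃ α : A →* ℂˣ, Function.Injective α := by
  obtain ⟨g, hg⟩ := IsCyclic.exists_generator (α := A)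
  have hn : orderOf g = Nat.card A := by
    rw [← Nat.card_zpowers, (Subgroup.eq_top_iff' _).2 hg, Subgroup.card_top]
  have hprim := Complex.isPrimitiveRoot_exp (Nat.card A) Nat.card_pos.ne'
  set ζ := Complex.exp (2 * Real.pi * Complex.I / (Nat.card A)) with hζ
  let z : ℂˣ := Units.mk0 ζ (Complex.exp_ne_zero _)
  have hz : IsPrimitiveRoot z (Nat.card A) := IsPrimitiveRoot.coe_units_iff.1 hprim
  have hoz : orderOf z = orderOf g := hz.eq_orderOf.symm.trans hn.symm
  refine ⟨monoidHomOfForallMemZpowers hg (dvd_of_eq hoz), ?_⟩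
  rw [injective_iff_map_eq_one]
  intro a ha
  obtain ⟨i, rfl⟩ := hg a
  rw [map_zpow, monoidHomOfForallMemZpowers_apply_gen, ← orderOf_dvd_iff_zpow_eq_one, hoz] at ha
  exact orderOf_dvd_iff_zpow_eq_one.1 ha

variable {E : Type v} [AddCommGroup E] [Finite E] [Nontrivial E] [DistribMulAction D E]
  [FaithfulSMul D E] [Group.IsSolvable D]

theorem pair_primitive {x : D} {s N ℓ : ℕ} (h : PrimElt E x s N ℓ) {q r : ℕ} [Fact q.Prime]
    [Fact r.Prime] (hqr : q ≠ r) (hsq : Spread q D E) (hsr : Spread r D E)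
    (hnq : 1 < Nat.card (Sylow q D)) (hnr : 1 < Nat.card (Sylow r D)) :
    ∃ χ : Cfsg.IrrCharacter D, q * r ∣ Cfsg.charDegree (χ : D → ℂ) := by
  classical
  have := Fact.mk h.hl
  have hcop : Nat.Coprime q r := (Nat.coprime_primes Fact.out Fact.out).2 hqr
  have hfree : ∀ {p : ℕ} [Fact p.Prime], Spread p D E → 1 < Nat.card (Sylow p D) → ∀ g : D,
      orderOf g = p → g * x = x * g → False := fun {p} _ hsp hnp g hg hgx => by
    obtain ⟨e, he, hge⟩ := hsp.exists_fixed_elt hnp h.hs h.card hg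
    exact he (h.fpf_of_commute hgx (fun e1 => (Fact.out : p.Prime).one_lt.ne (by
      rw [← hg, e1, orderOf_one])) hge)
  by_cases hc : ∀ t : ℕ, t.Prime → t ≠ ℓ → ∀ o ∈ Cfsg.pCore t D, o * x = x * o
  · obtain ⟨hCn, -⟩ := h.exists_cyclic hc
    set C : Subgroup D := Subgroup.centralizer {x} with hC
    haveI := hCn
    haveI : IsCyclic C := h.cyclic
    haveI : Fintype C := Fintype.ofFinite _
    obtain ⟨α, hα⟩ := exists_injective_hom C
    obtain ⟨χ, hχ⟩ := exists_deg_orbit C (Char.isIrrCharacter_linear α)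
    have hJ : Char.inertia C (fun c : C => (α c : ℂ)) ≤ C := fun g hg => by
      have hgx := congrFun ((Char.mem_inertia C).1 hg)
        ⟨x, Subgroup.mem_centralizer_singleton_iff.2 rfl⟩
      have hgx' := congrArg Subtype.val (hα (Units.ext hgx))
      refine Subgroup.mem_centralizer_singleton_iff.2 ?_
      exact mul_inv_eq_iff_eq_mul.1 hgx'
    refine ⟨χ, (hcop.mul_dvd_of_dvd_of_dvd ?_ ?_).trans hχ⟩
    · exact (dvd_index (dvd_card_of_one_lt hnq) fun g hg hgJ => hfree hsq hnq g hg
        (Subgroup.mem_centralizer_singleton_iff.1 hgJ)).trans (Subgroup.index_dvd_of_le hJ)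
    · exact (dvd_index (dvd_card_of_one_lt hnr) fun g hg hgJ => hfree hsr hnr g hg
        (Subgroup.mem_centralizer_singleton_iff.1 hgJ)).trans (Subgroup.index_dvd_of_le hJ)
  push Not at hc
  obtain ⟨t, ht, htl, o₀, ho₀, hne⟩ := hc
  have := Fact.mk ht
  set O := Cfsg.pCore t D with hOdef
  haveI hOn : O.Normal := FittingCores.pCore_normal t
  haveI : Fintype O := Fintype.ofFinite _
  obtain ⟨ht2, hlN, h2, hpow, hcard, hZcyc, hcent, hfpf⟩ := exceptional h htl O rfl ho₀ hne
  subst ht2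
  set Z := Subgroup.center O with hZdef
  haveI : IsMulCommutative (O ⧸ Z) := ⟨⟨fun a b => by
    induction a using QuotientGroup.induction_on with | _ a
    induction b using QuotientGroup.induction_on with | _ b
    rw [← commutatorElement_eq_one_iff_mul_comm]
    exact (QuotientGroup.eq_one_iff _).2 (comm_mem h2 a b)⟩⟩
  open scoped IsMulCommutative in
  let ψ : D →* AddMonoid.End (Additive (O ⧸ Z)) :=
    { toFun := fun g => (QuotientGroup.congr Z Z (MulAut.conjNormal g : MulAut O)
          (Subgroup.characteristic_iff_map_eq.1 inferInstance _)).toMonoidHom.toAdditive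
      map_one' := AddMonoidHom.ext fun q => by
        induction q using QuotientGroup.induction_on with | _ q
        simp
        rfl
      map_mul' := fun g g' => AddMonoidHom.ext fun q => by
        induction q using QuotientGroup.induction_on with | _ q
        simp
        rfl }
  have hψ : ∀ (g : D) (o : O), ψ g (Additive.ofMul (o : O ⧸ Z)) =
      Additive.ofMul ((MulAut.conjNormal g o : O) : O ⧸ Z) := fun g o => rfl
  -- odd elements acting trivially
  have hodd : ∀ (p : ℕ) [Fact p.Prime], p ≠ 2 → ∀ g : D, orderOf g = p →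
      (∀ o : O, ((MulAut.conjNormal g o : O) : O ⧸ Z) = o) → g * x = x * g := by
    intro p hp hp2 g hg htriv
    have hOp : IsPGroup 2 O := FittingCores.pCore_isPGroup 2
    obtain ⟨k, hk⟩ := IsPGroup.iff_card.1 hOp
    set σ : MulAut O := MulAut.conjNormal g with hσ
    have hσp : σ ^ p = 1 := by rw [hσ, ← map_pow, ← hg, pow_orderOf_eq_one, map_one]
    have hcop2 : Nat.Coprime p 2 := (Nat.coprime_primes Fact.out Nat.prime_two).2 hp2
    -- trivial on the centre
    let σZ : MulAut Z :=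
      MulEquiv.subgroupCongr (show Z = Z from rfl) |>.trans
        ((σ.subgroupMap Z).trans (MulEquiv.subgroupCongr (Subgroup.characteristic_iff_map_eq.1 inferInstance σ)))
    have hσZ : ∀ z : Z, ((σZ z : Z) : O) = σ z := fun z => rfl
    have hit : ∀ (n : ℕ) (z : Z), (((σZ ^ n) z : Z) : O) = (σ ^ n) z := by
      intro n
      induction n with
      | zero => intro z; rfl
      | succ n ih => intro z; rw [pow_succ', pow_succ', MulAut.mul_apply, MulAut.mul_apply, hσZ, ih]
    have hσZ1 : σZ = 1 := by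
      refine orderOf_eq_one_iff.1 (Nat.eq_one_of_dvd_coprimes (a := p) (b := Nat.card (MulAut Z))
        ?_ (orderOf_dvd_of_pow_eq_one ?_) (orderOf_dvd_natCard σZ))
      · rw [IsCyclic.card_mulAut]
        obtain ⟨j, -, hj⟩ := (Nat.dvd_prime_pow Nat.prime_two).1 (hk ▸ Subgroup.card_subgroup_dvd_card Z)
        rw [hj]
        rcases Nat.eq_zero_or_pos j with rfl | hj0
        · simp
        · rw [Nat.totient_prime_pow Nat.prime_two hj0]
          simpa using hcop2.pow_right (j - 1)
      · exact MulEquiv.ext fun z => Subtype.ext (by rw [hit, hσp]; rfl)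
    refine hcent g fun o ho => ?_
    set z : O := (⟨o, ho⟩ : O)⁻¹ * σ ⟨o, ho⟩ with hz
    have hzZ : z ∈ Z := QuotientGroup.eq.1 (htriv ⟨o, ho⟩).symm
    have hzfix : σ z = z := (hσZ ⟨z, hzZ⟩).symm.trans (by rw [hσZ1]; rfl)
    have hpow' : ∀ n : ℕ, (σ ^ n) ⟨o, ho⟩ = (⟨o, ho⟩ : O) * z ^ n := by
      intro n
      induction n with
      | zero => simp
      | succ n ih =>
        rw [pow_succ', MulAut.mul_apply, ih, map_mul, map_pow, hzfix, pow_succ', ← mul_assoc]
        congr 1
        rw [hz, mul_inv_cancel_left]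
    have hz1 : z = 1 := by
      refine orderOf_eq_one_iff.1 (Nat.eq_one_of_dvd_coprimes (a := p) (b := 2 ^ k) (hcop2.pow_right k)
        (orderOf_dvd_of_pow_eq_one ?_) (hk ▸ orderOf_dvd_natCard z))
      have h1 := hpow' p
      rw [hσp, MulAut.one_apply] at h1
      exact (mul_eq_left.1 h1.symm)
    have h1 : σ ⟨o, ho⟩ = ⟨o, ho⟩ := (inv_mul_eq_one.1 (hz ▸ hz1)).symm
    have h2' := congrArg Subtype.val h1
    rw [hσ, MulAut.conjNormal_apply] at h2'
    exact mul_inv_eq_iff_eq_mul.1 h2'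
  -- neither prime is two
  have hne2 : ∀ {p : ℕ} [Fact p.Prime], Spread p D E → 1 < Nat.card (Sylow p D) → p ≠ 2 := by
    intro p _ hsp hnp hp2
    subst hp2
    have htriv : ∀ o ∈ O, o = 1 := fun o ho => eq_of_smul_eq_smul (α := E) fun e => by
      rw [one_smul]
      by_cases he : e = 0
      · rw [he, smul_zero]
      · obtain ⟨Q, hQ, -⟩ := hsp e he
        exact hQ (FittingCores.pCore_le_sylow Q ho)
    exact hne (by rw [htriv o₀ ho₀, one_mul, mul_one])
  -- the second level
  obtain ⟨w₀, hw₀⟩ : ∃ w : O ⧸ Z, w ≠ 1 := by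
    by_contra hall
    push Not at hall
    have hxz : (⟨o₀, ho₀⟩ : O) ∈ Z := (QuotientGroup.eq_one_iff _).1 (hall _)
    refine hne (h.centralizes (Z.map O.subtype) ?_ ?_ ?_ ⟨_, hxz, rfl⟩)
    · rintro _ ⟨b, hb, rfl⟩
      refine ⟨MulAut.conjNormal x b, ?_, MulAut.conjNormal_apply x b⟩
      rw [← (inferInstance : Z.Characteristic).fixed (MulAut.conjNormal x : MulAut O)] at hb
      exact hb
    · exact fun hd => not_dvd_card_pCore h (t := 2)
        (hd.trans (Subgroup.card_dvd_of_le (Subgroup.map_subtype_le Z)))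
    · intro hd
      obtain ⟨k, hk⟩ := IsPGroup.iff_card.1 (FittingCores.pCore_isPGroup 2 : IsPGroup 2 O)
      exact htl ((Nat.prime_dvd_prime_iff_eq h.hl Nat.prime_two).1 (h.hl.dvd_of_dvd_pow
        (hk ▸ hd.trans (Subgroup.card_dvd_of_le (Subgroup.map_subtype_le Z))))).symm
  open scoped IsMulCommutative in
  let Γ : Submonoid (AddMonoid.End (Additive (O ⧸ Z))) := MonoidHom.mrange ψ
  open scoped IsMulCommutative in
  let ψu : D →* (AddMonoid.End (Additive (O ⧸ Z)))ˣ := ψ.toHomUnits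
  open scoped IsMulCommutative in
  let D₂ : Subgroup (AddMonoid.End (Additive (O ⧸ Z)))ˣ := ψu.range
  open scoped IsMulCommutative in
  letI act : DistribMulAction D₂ (Additive (O ⧸ Z)) :=
    DistribMulAction.compHom _ ((Units.coeHom _).comp D₂.subtype)
  open scoped IsMulCommutative in
  haveI : FaithfulSMul D₂ (Additive (O ⧸ Z)) :=
    ⟨fun {a b} hab => Subtype.ext (Units.ext (AddMonoidHom.ext hab))⟩
  haveI : Finite D₂ := Finite.of_surjective _ ψu.rangeRestrict_surjective
  have hsol₂ : Group.IsSolvable D₂ :=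
    Group.isSolvable_of_surjective ψu.rangeRestrict_surjective
  haveI := hsol₂
  let π : D →* D₂ := ψu.rangeRestrict
  have hπ : ∀ (g : D) (o : O), π g • Additive.ofMul (o : O ⧸ Z) =
      Additive.ofMul ((MulAut.conjNormal g o : O) : O ⧸ Z) := fun g o => rfl
  have hxfix : ∀ w : O ⧸ Z, π x • Additive.ofMul w = Additive.ofMul w → w = 1 := by
    intro w
    induction w using QuotientGroup.induction_on with | _ o
    intro hw
    rw [hπ] at hw
    exact (QuotientGroup.eq_one_iff o).2 (hfpf o (QuotientGroup.eq.1 (Additive.ofMul.injective hw).symm))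
  have hπx : orderOf (π x) = ℓ := by
    refine orderOf_eq_prime (by rw [← map_pow, h.pow_eq, map_one]) fun he => hw₀ (hxfix w₀ ?_)
    rw [he]; exact one_smul D₂ _
  obtain ⟨i, -, hi⟩ : ∃ i ≤ _, N * N = 2 ^ i := (Nat.dvd_prime_pow Nat.prime_two).1
    (hcard ▸ (IsPGroup.iff_card.1 (FittingCores.pCore_isPGroup 2 : IsPGroup 2 O)).choose_spec ▸
      Subgroup.card_quotient_dvd_card Z)
  obtain ⟨a, -, ha⟩ : ∃ a ≤ i, N = 2 ^ a :=
    (Nat.dvd_prime_pow Nat.prime_two).1 (hi ▸ dvd_mul_left N N)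
  have ha0 : 0 < a := by
    rcases Nat.eq_zero_or_pos a with rfl | ha0
    · exfalso
      have h1 : Nat.card (O ⧸ Z) = 1 := by rw [hcard, ha]; norm_num
      haveI := (Nat.card_eq_one_iff_unique.1 h1).1
      exact hw₀ (Subsingleton.elim _ _)
    · exact ha0
  open scoped IsMulCommutative in
  haveI : Nontrivial (Additive (O ⧸ Z)) := ⟨⟨Additive.ofMul w₀, 0, fun e => hw₀ e⟩⟩
  have hP2 : PrimElt (Additive (O ⧸ Z)) (π x) 2 (2 * a) ℓ :=
    { hs := Nat.prime_two
      exp := fun e => by
        induction e using QuotientGroup.induction_on with | _ o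
        exact congrArg Additive.ofMul ((QuotientGroup.eq_one_iff _).2 (hpow o))
      card := by
        show Nat.card (O ⧸ Z) = _
        rw [hcard, ha, ← pow_add, two_mul]
      pos := by omega
      hl := h.hl
      order := hπx
      dvd := ⟨2 ^ a - 1, by
        rw [hlN, ha, two_mul, pow_add]
        obtain ⟨k, hk⟩ : ∃ k, 2 ^ a = k + 1 :=
          ⟨2 ^ a - 1, by have := Nat.one_le_two_pow (n := a); omega⟩
        rw [hk, Nat.add_sub_cancel]
        exact Nat.sub_eq_of_eq_add (by ring)⟩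
      prim := fun j hj hj2 hd => by
        rw [hlN, ha] at hd
        have hd2 : 2 ^ a + 1 ∣ 2 ^ (2 * a) - 1 := ⟨2 ^ a - 1, by
          obtain ⟨k, hk⟩ : ∃ k, 2 ^ a = k + 1 :=
            ⟨2 ^ a - 1, by have := Nat.one_le_two_pow (n := a); omega⟩
          rw [two_mul, pow_add, hk, Nat.add_sub_cancel]
          exact Nat.sub_eq_of_eq_add (by ring)⟩
        have hg := Nat.dvd_gcd hd hd2
        rw [Nat.pow_sub_one_gcd_pow_sub_one] at hg
        have hgpos : 0 < Nat.gcd j (2 * a) := Nat.gcd_pos_of_pos_left _ hj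
        have hga : Nat.gcd j (2 * a) ≤ a := by
          obtain ⟨m, hm⟩ := Nat.gcd_dvd_right j (2 * a)
          have hle : Nat.gcd j (2 * a) ≤ j := Nat.gcd_le_left _ hj
          have hm2 : 2 ≤ m := by
            rcases m with _ | _ | m
            · omega
            · omega
            · omega
          nlinarith
        have h1 : 2 ^ Nat.gcd j (2 * a) ≤ 2 ^ a := Nat.pow_le_pow_right two_pos hga
        have h2' : 2 ≤ 2 ^ Nat.gcd j (2 * a) := Nat.le_self_pow hgpos.ne' 2
        have := Nat.le_of_dvd (by omega) hg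
        omega }
  have hc₂ : ∀ t : ℕ, t.Prime → t ≠ ℓ → ∀ o ∈ Cfsg.pCore t D₂, o * π x = π x * o := by
    intro t ht htl o ho
    have := Fact.mk ht
    by_contra hne'
    haveI : (Cfsg.pCore t D₂).Normal := FittingCores.pCore_normal t
    obtain ⟨rfl, -⟩ := exceptional hP2 htl (Cfsg.pCore t D₂) rfl ho hne'
    obtain ⟨k, hk⟩ := IsPGroup.iff_card.1 (FittingCores.pCore_isPGroup 2 : IsPGroup 2 (Cfsg.pCore 2 D₂))
    have h1 := not_dvd_card_pCore hP2 (t := 2)
    rcases Nat.eq_zero_or_pos k with rfl | hk0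
    · rw [pow_zero, Subgroup.card_eq_one] at hk
      rw [hk, Subgroup.mem_bot] at ho
      exact hne' (by rw [ho, one_mul, mul_one])
    · exact h1 (hk ▸ dvd_pow_self 2 hk0.ne')
  obtain ⟨hC₂n, hC₂i⟩ := hP2.exists_cyclic hc₂
  set C₂ : Subgroup D₂ := Subgroup.centralizer {π x} with hC₂
  haveI := hC₂n
  rw [hlN, ha, Nat.add_sub_cancel] at hC₂i
  -- a linear character of the core
  open scoped IsMulCommutative in
  haveI : NeZero (Monoid.exponent (O ⧸ Z) : ℂ) :=
    ⟨Nat.cast_ne_zero.mpr Monoid.exponent_ne_zero_of_finite⟩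
  open scoped IsMulCommutative in
  obtain ⟨f, hf⟩ := CommGroup.exists_apply_ne_one_of_hasEnoughRootsOfUnity (O ⧸ Z) ℂ hw₀
  let lam : O →* ℂˣ := f.comp (QuotientGroup.mk' Z)
  obtain ⟨χ, hχ⟩ := exists_deg_orbit O (Char.isIrrCharacter_linear lam)
  refine ⟨χ, Dvd.dvd.trans ?_ hχ⟩
  have key : ∀ {p : ℕ} [Fact p.Prime], Spread p D E → 1 < Nat.card (Sylow p D) →
      p ∣ (Char.inertia O fun o : O => (lam o : ℂ)).index := by
    intro p hp hsp hnp
    have hp2 : p ≠ 2 := hne2 hsp hnp
    refine dvd_index (dvd_card_of_one_lt hnp) fun g hg hgJ => hw₀ ?_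
    have hg1 : π g ≠ 1 := fun e => hfree hsp hnp g hg (hodd p hp2 g hg fun o => by
      have := hπ g o
      rw [e] at this
      replace this := (one_smul D₂ (Additive.ofMul (o : O ⧸ Z))).symm.trans this
      exact (Additive.ofMul.injective this).symm)
    have hgC : π g ∈ C₂ := by
      have hpw : (π g) ^ p = 1 := by rw [← map_pow, ← hg, pow_orderOf_eq_one, map_one]
      rw [← QuotientGroup.eq_one_iff, ← orderOf_eq_one_iff]
      refine Nat.eq_one_of_dvd_coprimes (a := p) (b := 2 ^ a)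
        (((Nat.coprime_primes Fact.out Nat.prime_two).2 hp2).pow_right a)
        (orderOf_dvd_of_pow_eq_one (by rw [← QuotientGroup.mk_pow, hpw, QuotientGroup.mk_one]))
        ((orderOf_dvd_natCard _).trans hC₂i)
    have hgfree : ∀ w : O ⧸ Z, π g • Additive.ofMul w = Additive.ofMul w → w = 1 := fun w hw =>
      Additive.ofMul.injective
        (hP2.fpf_of_commute (Subgroup.mem_centralizer_singleton_iff.1 hgC) hg1 hw)
    -- every element of the quotient is a displacement
    open scoped IsMulCommutative in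
    let δ : Additive (O ⧸ Z) → Additive (O ⧸ Z) := fun w => π g • w - w
    have hδ : Function.Injective δ := fun w w' hww => by
      have h1 : π g • (w - w') = w - w' := by
        simp only [δ] at hww
        rw [smul_sub, sub_eq_sub_iff_sub_eq_sub.1 hww]
      exact sub_eq_zero.1 (hgfree (Additive.toMul (w - w')) h1)
    obtain ⟨v, hv⟩ := (Finite.injective_iff_surjective.1 hδ) (Additive.ofMul w₀)
    exfalso
    apply hf
    induction v using QuotientGroup.induction_on with | _ o
    have hw : w₀ = ((MulAut.conjNormal g o : O) : O ⧸ Z) / (o : O ⧸ Z) := (congrArg Additive.toMul hv).symm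
    rw [hw, map_div, div_eq_one]
    exact Units.ext (congrFun ((Char.mem_inertia O).1 hgJ) o)
  exact hcop.mul_dvd_of_dvd_of_dvd (key hsq hnq) (key hsr hnr)

end Pair

end Cfsg.Agent.ThreePrimes
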