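import Cfsg.Agent.Lib.ThreePrimes.Spread

/-!
# Two spreads, the general statement, and a spread with a small kernel representation
-/

set_option autoImplicit false
set_option linter.style.haveILetI false
set_option linter.unusedSectionVars false

namespace Cfsg.Agent.ThreePrimes

open Cfsg.Agent

universe u v w

variable {D : Type u} [Group D] [Finite D]
variable {E : Type v} [AddCommGroup E] [Finite E] [Nontrivial E] [DistribMulAction D E]

theorem exists_primElt [FaithfulSMul D E] {s N ℓ : ℕ} (hs : s.Prime) (hexp : ∀ e : E, s • e = 0)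
    (hE : Nat.card E = s ^ N) (hN : 0 < N) (hl : ℓ.Prime) (hdvd : ℓ ∣ s ^ N - 1)
    (hprim : ∀ j, 0 < j → j < N → ¬ ℓ ∣ s ^ j - 1) (hlD : ℓ ∣ Nat.card D) :
    ∃ x : D, PrimElt E x s N ℓ := by
  haveI := Fact.mk hl
  obtain ⟨x, hx⟩ := exists_prime_orderOf_dvd_card' (G := D) ℓ hlD
  exact ⟨x, hs, hexp, hE, hN, hl, hx, hdvd, hprim⟩

/-- The field of order `64`. -/
theorem six_pair [FaithfulSMul D E] (hexp : ∀ e : E, 2 • e = 0) (hE : Nat.card E = 2 ^ 6)
    {q r : ℕ} [Fact q.Prime] [Fact r.Prime] (hq : q = 31 ∨ q = 5) (hr : r = 2 ∨ (r = 5 ∧ q = 31))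
    (hsq : Spread q D E) (hsr : Spread r D E)
    (hnq : 1 < Nat.card (Sylow q D)) (hnr : 1 < Nat.card (Sylow r D)) : False := by
  classical
  have hqr : q ≠ r := by omega
  obtain ⟨fr, hfr0, hfr6, hfr, hfrc⟩ := hsr.count hnr Nat.prime_two hE
  have hfr3 : fr ≤ 3 := by
    rcases six_cases hfr0 hfr6 hfr with ⟨rfl, -⟩ | ⟨rfl, -⟩ | ⟨rfl, -⟩ <;> omega
  obtain ⟨e, he⟩ := exists_ne (0 : E)
  obtain ⟨Q, hQ, hQn⟩ := hsq e he
  obtain ⟨R, hR, hRn⟩ := hsr e he
  obtain ⟨g, hgQ, hg⟩ : ∃ g ∈ (Q : Subgroup D), orderOf g = q := by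
    have hqQ : q ∣ Nat.card (Q : Subgroup D) :=
      Q.dvd_card_of_dvd_card (dvd_card_of_one_lt hnq)
    obtain ⟨⟨g, hgQ⟩, hg⟩ := exists_prime_orderOf_dvd_card' q hqQ
    exact ⟨g, hgQ, by rwa [Subgroup.orderOf_mk] at hg⟩
  let δ : E →+ E :=
    { toFun := fun v => g • v - v
      map_zero' := by simp
      map_add' := fun a b => by rw [smul_add]; abel }
  have hpow : g ^ q = 1 := hg ▸ pow_orderOf_eq_one g
  have hinv : ∀ v ∈ δ.range, g • v ∈ δ.range := by
    rintro _ ⟨w, rfl⟩
    exact ⟨g • w, by show g • g • w - g • w = g • (g • w - w); rw [smul_sub]⟩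
  have hdisj : ∀ v ∈ δ.range, g • v = v → v = 0 := by
    rintro _ ⟨w, rfl⟩ hv
    have h1 : ∀ n : ℕ, g ^ n • w = w + n • δ w := by
      intro n
      induction n with
      | zero => simp
      | succ n ih =>
        rw [pow_succ', mul_smul, ih, smul_add, smul_comm g n (δ w), hv, succ_nsmul,
          show g • w = w + δ w by show g • w = w + (g • w - w); abel]
        abel
    have h2 := h1 q
    rw [hpow, one_smul] at h2
    have h3 : q • δ w = 0 := (left_eq_add.1 h2)
    exact AddMonoid.addOrderOf_eq_one_iff.1 (Nat.eq_one_of_dvd_coprimes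
      (show Nat.Coprime q 2 by rcases hq with rfl | rfl <;> norm_num)
      (addOrderOf_dvd_of_nsmul_eq_zero h3) (addOrderOf_dvd_of_nsmul_eq_zero (hexp _)))
  have hfix0 : δ.range ⊓ TransLinear.fixSub E g = ⊥ := by
    rw [eq_bot_iff]
    rintro v ⟨hv, hv'⟩
    exact hdisj v hv hv'
  obtain ⟨j, hj6, hj⟩ := (Nat.dvd_prime_pow Nat.prime_two).1 (hE ▸ δ.range.card_addSubgroup_dvd_card)
  have hjmod : 2 ^ j ≡ 1 [MOD q] := by
    have := TransLinear.card_modEq (Fact.out : q.Prime) hpow hinv
    rwa [hfix0, AddSubgroup.card_bot, hj] at this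
  have hj0 : j ≠ 0 := by
    rintro rfl
    rw [pow_zero, AddSubgroup.card_eq_one] at hj
    have : g = 1 := eq_of_smul_eq_smul (α := E) fun v => by
      rw [one_smul]
      exact sub_eq_zero.1 ((AddSubgroup.eq_bot_iff_forall _).1 hj (δ v) ⟨v, rfl⟩)
    rw [this, orderOf_one] at hg
    exact (Fact.out : q.Prime).one_lt.ne hg
  have he' : e ∉ δ.range := fun hmem => he (hdisj e hmem (hQ hgQ))
  have hj6' : j ≠ 6 := fun h6 => he' (by
    rw [AddSubgroup.eq_top_of_card_eq δ.range (by rw [hj, h6, hE])]; trivial)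
  have hjval : (q = 31 ∧ j = 5) ∨ (q = 5 ∧ j = 4) := by
    rcases hq with rfl | rfl <;> interval_cases j <;> first | omega | exact absurd hjmod (by decide)
  -- the whole range is fixed by `R`
  have hcomm : ∀ h ∈ (R : Subgroup D), g * h = h * g := fun h hh =>
    Spread.commute_elt hqr hQ hQn hR hRn hgQ hh
  have hRinv : ∀ h ∈ (R : Subgroup D), ∀ v ∈ δ.range, h • v ∈ δ.range := by
    rintro h hh _ ⟨w, rfl⟩
    refine ⟨h • w, ?_⟩
    show g • h • w - h • w = h • (g • w - w)
    rw [smul_sub, ← mul_smul, hcomm h hh, mul_smul]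
  let S : SubMulAction (R : Subgroup D) E :=
    { carrier := δ.range
      smul_mem' := fun h v hv => hRinv h h.2 v hv }
  have hmod := R.isPGroup'.card_modEq_card_fixedPoints S
  have hS : Nat.card S = 2 ^ j := hj
  have hW : Nat.card (MulAction.fixedPoints (R : Subgroup D) S) =
      Nat.card (δ.range ⊓ fixS E (R : Subgroup D) : AddSubgroup E) :=
    Nat.card_congr
      { toFun := fun p => ⟨(p.1 : E), p.1.2, fun h hh => congrArg Subtype.val (p.2 ⟨h, hh⟩)⟩
        invFun := fun p => ⟨⟨(p : E), p.2.1⟩, fun h => Subtype.ext (p.2.2 h h.2)⟩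
        left_inv := fun _ => rfl
        right_inv := fun _ => rfl }
  rw [hS, hW] at hmod
  set W := δ.range ⊓ fixS E (R : Subgroup D) with hWdef
  obtain ⟨i, hi6, hi⟩ := (Nat.dvd_prime_pow Nat.prime_two).1 (hE ▸ W.card_addSubgroup_dvd_card)
  have himod : 2 ^ i ≡ 1 [MOD q] := by
    have hWinv : ∀ v ∈ W, g • v ∈ W := fun v hv => ⟨hinv v hv.1, fun h hh => by
      rw [← mul_smul, ← hcomm h hh, mul_smul, hv.2 h hh]⟩
    have := TransLinear.card_modEq (Fact.out : q.Prime) hpow hWinv
    rwa [show W ⊓ TransLinear.fixSub E g = ⊥ from le_bot_iff.1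
      (hfix0 ▸ inf_le_inf_right _ inf_le_left), AddSubgroup.card_bot, hi] at this
  have hiW : 2 ^ i ≤ 2 ^ j := by
    rw [← hi, ← hj]
    exact AddSubgroup.card_le_of_le inf_le_left
  have hij : i ≤ j := (Nat.pow_le_pow_iff_right one_lt_two).1 hiW
  rw [hi] at hmod
  have hijeq : i = j := by
    rcases hjval with ⟨rfl, rfl⟩ | ⟨rfl, rfl⟩ <;>
      rcases hr with rfl | ⟨rfl, h31⟩ <;> interval_cases i <;>
      first | rfl | omega | exact absurd himod (by decide) | (revert hmod; norm_num [Nat.ModEq])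
  -- `R` fixes too much
  have hWle : δ.range ≤ fixS E (R : Subgroup D) := by
    have : W = δ.range := AddSubgroup.eq_of_le_of_card_ge inf_le_left (by rw [hi, hj, hijeq])
    exact this ▸ inf_le_right
  have hlt : δ.range < fixS E (R : Subgroup D) :=
    lt_of_le_of_ne hWle fun h => he' (h ▸ mem_fixS.2 hR)
  have hdvd := AddSubgroup.card_dvd_of_le hWle
  rw [hj, hfrc R] at hdvd
  have hjf : j ≤ fr := (Nat.pow_dvd_pow_iff_le_right (by norm_num)).1 hdvd
  rcases hjval with ⟨-, rfl⟩ | ⟨-, rfl⟩ <;> omega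

/-- Two spreads give a degree divisible by both primes. -/
theorem pair [FaithfulSMul D E] [Group.IsSolvable D] {s N : ℕ} (hs : s.Prime)
    (hexp : ∀ e : E, s • e = 0) (hE : Nat.card E = s ^ N) {q r : ℕ} [Fact q.Prime] [Fact r.Prime]
    (hqr : q ≠ r) (hsq : Spread q D E) (hsr : Spread r D E)
    (hnq : 1 < Nat.card (Sylow q D)) (hnr : 1 < Nat.card (Sylow r D)) :
    ∃ χ : Cfsg.IrrCharacter D, q * r ∣ Cfsg.charDegree (χ : D → ℂ) := by
  classical
  obtain ⟨f, hf0, hfN, hf, -⟩ := hsq.count hnq hs hE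
  by_cases h6 : s = 2 ∧ N = 6
  · exfalso
    obtain ⟨rfl, rfl⟩ := h6
    have hcase : ∀ {p : ℕ} [Fact p.Prime], Spread p D E → 1 < Nat.card (Sylow p D) →
        p = 2 ∨ p = 31 ∨ p = 5 := by
      intro p _ hsp hnp
      obtain ⟨f', hf0', hfN', hf', -⟩ := hsp.count hnp Nat.prime_two hE
      have hd := dvd_sylow_sub_one (q := p) (D := D)
      have hp : p.Prime := Fact.out
      have key : ∀ n : ℕ, p ∣ n → 0 < n → p ∈ n.divisors.filter Nat.Prime := fun n h1 h2 =>
        Finset.mem_filter.2 ⟨Nat.mem_divisors.2 ⟨h1, h2.ne'⟩, hp⟩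
      rcases six_cases hf0' hfN' hf' with ⟨-, hn⟩ | ⟨-, hn⟩ | ⟨-, hn⟩ <;> rw [hn] at hd
      · have := key 62 hd (by norm_num)
        rw [show (62 : ℕ).divisors.filter Nat.Prime = {2, 31} by decide +kernel] at this
        simp at this; omega
      · have := key 20 hd (by norm_num)
        rw [show (20 : ℕ).divisors.filter Nat.Prime = {2, 5} by decide +kernel] at this
        simp at this; omega
      · have := key 8 hd (by norm_num)
        rw [show (8 : ℕ).divisors.filter Nat.Prime = {2} by decide +kernel] at this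
        simp at this; omega
    rcases hcase hsq hnq with hq | hq | hq <;> rcases hcase hsr hnr with hr | hr | hr
    all_goals first
      | exact hqr (hq.trans hr.symm)
      | exact six_pair hexp hE (by omega) (by omega) hsq hsr hnq hnr
      | exact six_pair hexp hE (by omega) (by omega) hsr hsq hnr hnq
  by_cases h2 : N = 2 ∧ ∃ m, s + 1 = 2 ^ m
  · exfalso
    obtain ⟨rfl, -⟩ := h2
    have hcase : ∀ {p : ℕ} [Fact p.Prime], Spread p D E → 1 < Nat.card (Sylow p D) → p = s := by
      intro p _ hsp hnp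
      obtain ⟨f', hf0', hfN', hf', -⟩ := hsp.count hnp hs hE
      obtain rfl : f' = 1 := by omega
      obtain ⟨k, rfl⟩ : ∃ k, s = k + 2 := ⟨s - 2, by have := hs.two_le; omega⟩
      rw [pow_one, show (k + 2) ^ 2 - 1 = (k + 3) * (k + 2 - 1) from
        Nat.sub_eq_of_eq_add (by rw [show k + 2 - 1 = k + 1 from rfl]; ring)] at hf'
      have hd := dvd_sylow_sub_one (q := p) (D := D)
      rw [Nat.eq_of_mul_eq_mul_right (by omega) hf', show k + 3 - 1 = k + 2 from rfl] at hd
      exact (Nat.prime_dvd_prime_iff_eq Fact.out hs).1 hd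
    exact hqr ((hcase hsq hnq).trans (hcase hsr hnr).symm)
  have hN2 : 1 < N := by omega
  obtain ⟨ℓ, hl, hld, hlp⟩ := LEZsig.zsigmondy s N hs.one_lt hN2 h6 h2
  have hln : ℓ ∣ Nat.card (Sylow q D) := by
    refine ((Nat.Prime.dvd_mul hl).1 (hf ▸ hld)).resolve_right (hlp f hf0 hfN)
  have hlD : ℓ ∣ Nat.card D :=
    hln.trans (((default : Sylow q D).card_eq_index_normalizer).dvd.trans (Subgroup.index_dvd_card _))
  obtain ⟨x, hx⟩ := exists_primElt hs hexp hE (by omega) hl hld hlp hlD
  exact pair_primitive hx hqr hsq hsr hnq hnr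

/-- A spread whose Sylow subgroups are normalised by the kernel of a smaller module, and by a
normal Sylow subgroup without fixed points. -/
theorem small_kernel {F : Type w} [AddCommGroup F] [Finite F] [DistribMulAction D F] {s N m : ℕ}
    (hs : s.Prime) (hE : Nat.card E = s ^ N) (hF : Nat.card F = s ^ m) (hmN : m < N)
    {q r : ℕ} [Fact q.Prime] [Fact r.Prime] (hqs : q ≠ s)
    (hsq : Spread q D E) (hnq : 1 < Nat.card (Sylow q D))
    (hker : ∀ (Q : Sylow q D) (g : D), (∀ a : F, g • a = a) →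
      g ∈ Subgroup.normalizer ((Q : Subgroup D) : Set D))
    (R : Sylow r D) (hRQ : ∀ Q : Sylow q D,
      (R : Subgroup D) ≤ Subgroup.normalizer ((Q : Subgroup D) : Set D))
    (hRfix : ∀ e : E, (∀ g ∈ (R : Subgroup D), g • e = e) → e = 0) : False := by
  classical
  obtain ⟨f, hf0, hfN, hf, hfc⟩ := hsq.count hnq hs hE
  let Q₀ : Sylow q D := default
  have hn : Nat.card (Sylow q D) = (Subgroup.normalizer ((Q₀ : Subgroup D) : Set D)).index :=
    Q₀.card_eq_index_normalizer
  let ρ : D →* AddMonoid.End F := DistribMulAction.toAddMonoidEnd D F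
  let ρu : D →* (AddMonoid.End F)ˣ := ρ.toHomUnits
  have hnρ : Nat.card (Sylow q D) ∣ Nat.card ρu.range := by
    rw [hn, ← Subgroup.index_ker]
    refine Subgroup.index_dvd_of_le fun g hg => hker Q₀ g fun a => ?_
    exact DFunLike.congr_fun (congrArg Units.val (MonoidHom.mem_ker.1 hg)) a
  have hrn : ¬ r ∣ Nat.card (Sylow q D) := fun hd =>
    R.not_dvd_index ((hd.trans hn.dvd).trans (Subgroup.index_dvd_of_le (hRQ Q₀)))
  by_cases h6 : s = 2 ∧ N = 6
  · obtain ⟨rfl, rfl⟩ := h6
    have hd := dvd_sylow_sub_one (q := q) (D := D)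
    have hUR : Nat.card (fixS E (Q₀ : Subgroup D)) ≡ 1 [MOD r] := by
      let S : SubMulAction (R : Subgroup D) E :=
        { carrier := fixS E (Q₀ : Subgroup D)
          smul_mem' := fun h v hv g hg => by
            have h1 := CoprimeAct.conj_mem_of_mem_normalizer (inv_mem (hRQ Q₀ h.2)) hg
            rw [inv_inv] at h1
            show g • (h : D) • v = (h : D) • v
            calc g • (h : D) • v = (h : D) • (((h : D)⁻¹ * g * h) • v) := by
                  simp only [← mul_smul]; congr 1; group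
              _ = (h : D) • v := by rw [hv _ h1] }
      have hmod := R.isPGroup'.card_modEq_card_fixedPoints S
      have h1 : Nat.card (MulAction.fixedPoints (R : Subgroup D) S) = 1 := by
        rw [Nat.card_eq_one_iff_unique]
        refine ⟨⟨fun a b => Subtype.ext (Subtype.ext ?_)⟩, ⟨⟨⟨0, AddSubgroup.zero_mem _⟩,
          fun h => Subtype.ext (smul_zero (h : D))⟩⟩⟩
        have hz : ∀ a : MulAction.fixedPoints (R : Subgroup D) S, ((a : S) : E) = 0 := fun a =>
          hRfix _ fun g hg => congrArg Subtype.val (a.2 ⟨g, hg⟩)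
        rw [hz a, hz b]
      rwa [h1] at hmod
    rw [hfc Q₀] at hUR
    rcases six_cases hf0 hfN hf with ⟨rfl, h63⟩ | ⟨rfl, h21⟩ | ⟨rfl, h9⟩
    · have h1 : r ∣ 1 := (Nat.modEq_iff_dvd' (by norm_num)).1 hUR.symm
      exact (Fact.out : r.Prime).one_lt.ne' (Nat.dvd_one.1 h1)
    · have h1 : r ∣ 3 := (Nat.modEq_iff_dvd' (by norm_num)).1 hUR.symm
      obtain rfl := (Nat.prime_dvd_prime_iff_eq Fact.out Nat.prime_three).1 h1
      exact hrn (h21 ▸ by norm_num)
    · rw [h9] at hd
      exact hqs ((Nat.prime_dvd_prime_iff_eq Fact.out Nat.prime_two).1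
        ((Fact.out : q.Prime).dvd_of_dvd_pow (show q ∣ 2 ^ 3 from hd)))
  by_cases h2 : N = 2 ∧ ∃ k, s + 1 = 2 ^ k
  · obtain ⟨rfl, -⟩ := h2
    obtain rfl : f = 1 := by omega
    have hn1 : Nat.card (Sylow q D) = s + 1 := by
      obtain ⟨k, rfl⟩ : ∃ k, s = k + 2 := ⟨s - 2, by have := hs.two_le; omega⟩
      rw [pow_one, show (k + 2) ^ 2 - 1 = (k + 3) * (k + 2 - 1) from
        Nat.sub_eq_of_eq_add (by rw [show k + 2 - 1 = k + 1 from rfl]; ring)] at hf
      exact Nat.eq_of_mul_eq_mul_right (by omega) hf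
    rw [hn1] at hnρ
    haveI : Finite ρu.range := Finite.of_surjective _ ρu.rangeRestrict_surjective
    have hle : Nat.card ρu.range ≤ s := by
      rcases Nat.eq_zero_or_pos m with rfl | hm0
      · rw [pow_zero, Nat.card_eq_one_iff_unique] at hF
        haveI := hF.1
        haveI : Subsingleton (AddMonoid.End F)ˣ :=
          ⟨fun a b => Units.ext (AddMonoidHom.ext fun _ => Subsingleton.elim _ _)⟩
        rw [Nat.card_of_subsingleton (1 : ρu.range)]
        exact hs.pos
      obtain rfl : m = 1 := by omega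
      rw [pow_one] at hF
      haveI := Fact.mk hs
      haveI : IsAddCyclic F := isAddCyclic_of_prime_card hF
      obtain ⟨a, ha⟩ := IsAddCyclic.exists_generator (α := F)
      refine (Nat.card_le_card_of_injective
        (fun g : ρu.range => ((g : (AddMonoid.End F)ˣ) : AddMonoid.End F) a) ?_).trans hF.le
      intro g g' hgg
      refine Subtype.ext (Units.ext (AddMonoidHom.ext fun b => ?_))
      obtain ⟨i, rfl⟩ := AddSubgroup.mem_zmultiples_iff.1 (ha b)
      exact (map_zsmul _ i a).trans ((congrArg (i • ·) hgg).trans (map_zsmul _ i a).symm)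
    have := Nat.le_of_dvd Nat.card_pos hnρ
    omega
  have hN2 : 1 < N := by omega
  obtain ⟨ℓ, hl, hld, hlp⟩ := LEZsig.zsigmondy s N hs.one_lt hN2 h6 h2
  have hln : ℓ ∣ Nat.card (Sylow q D) := by
    refine ((Nat.Prime.dvd_mul hl).1 (hf ▸ hld)).resolve_right (hlp f hf0 hfN)
  haveI : Finite ρu.range := Finite.of_surjective _ ρu.rangeRestrict_surjective
  haveI := Fact.mk hl
  obtain ⟨y, hy⟩ := exists_prime_orderOf_dvd_card' (G := ρu.range) ℓ (hln.trans hnρ)
  have hyl : (y : (AddMonoid.End F)ˣ) ^ ℓ = 1 := by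
    have := congrArg Subtype.val (hy ▸ pow_orderOf_eq_one y)
    exact this
  obtain ⟨d, hd⟩ := y.2
  have hfixd : TransLinear.fixSub F d = ⊤ := by
    letI : MulAction (Subgroup.zpowers (y : (AddMonoid.End F)ˣ)) F :=
      { smul := fun g a => ((g : (AddMonoid.End F)ˣ) : AddMonoid.End F) a
        one_smul := fun a => rfl
        mul_smul := fun g g' a => rfl }
    have hyo : orderOf (y : (AddMonoid.End F)ˣ) = ℓ := (Subgroup.orderOf_coe y).trans hy
    have hp : IsPGroup ℓ (Subgroup.zpowers (y : (AddMonoid.End F)ˣ)) :=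
      IsPGroup.of_card (n := 1) (by rw [Nat.card_zpowers, hyo, pow_one])
    have hmod := hp.card_modEq_card_fixedPoints F
    have hfp : Nat.card (MulAction.fixedPoints (Subgroup.zpowers (y : (AddMonoid.End F)ˣ)) F) =
        Nat.card (TransLinear.fixSub F d) :=
      Nat.card_congr (Equiv.subtypeEquivRight fun a => by
        constructor
        · intro ha
          have h1 := ha ⟨_, Subgroup.mem_zpowers _⟩
          show d • a = a
          calc d • a = ((y : (AddMonoid.End F)ˣ) : AddMonoid.End F) a := by rw [← hd]; rfl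
            _ = a := h1
        · intro ha g
          obtain ⟨i, hi⟩ := g.2
          show ((g : (AddMonoid.End F)ˣ) : AddMonoid.End F) a = a
          have h1 : (g : (AddMonoid.End F)ˣ) = ρu (d ^ i) := by rw [← hi, ← hd, map_zpow]
          rw [h1]
          show d ^ i • a = a
          exact (MulAction.stabilizer D a).zpow_mem ha i)
    rw [hfp, hF] at hmod
    obtain ⟨k, hkm, hk⟩ :=
      (Nat.dvd_prime_pow hs).1 (hF ▸ (TransLinear.fixSub F d).card_addSubgroup_dvd_card)
    rw [hk] at hmod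
    rcases hkm.eq_or_lt with rfl | hlt
    · exact AddSubgroup.eq_top_of_card_eq _ (hk.trans hF.symm)
    · exfalso
      have h1 : ℓ ∣ s ^ m - s ^ k :=
        (Nat.modEq_iff_dvd' (Nat.pow_le_pow_right hs.pos hkm)).1 hmod.symm
      rw [show s ^ m = s ^ k * s ^ (m - k) by rw [← pow_add, Nat.add_sub_cancel' hkm],
        ← Nat.mul_sub_one] at h1
      rcases (Nat.Prime.dvd_mul hl).1 h1 with h3 | h3
      · have hls := hl.dvd_of_dvd_pow h3
        have h4 := Nat.dvd_sub (hls.trans (dvd_pow_self s (by omega : N ≠ 0))) hld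
        rw [Nat.sub_sub_self (Nat.one_le_pow _ _ hs.pos)] at h4
        exact hl.one_lt.ne' (Nat.dvd_one.1 h4)
      · exact hlp (m - k) (by omega) (by omega) h3
  refine hl.one_lt.ne (hy ▸ ?_)
  rw [eq_comm, orderOf_eq_one_iff]
  refine Subtype.ext (Units.ext (AddMonoidHom.ext fun a => ?_))
  rw [← hd]
  exact hfixd.ge (AddSubgroup.mem_top a)

end Cfsg.Agent.ThreePrimes
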